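/-
Finite checks on the two standard involutions in natural coordinates: involutions commuting with them.
-/
import Cfsg.Agent.Lib.FiTwoType.Checks

set_option autoImplicit false

namespace CfsgLib.FiThreeType

open FiTwoType (T1 T2 fixL dispL c2L)
open U6Rec (app comp one elt rep)

/-- The fixed vectors of a first element fixed by a second one. -/
def both (u g : ℕ) : List ℕ := (fixL u).filter fun m => Nat.beq (app g m) m

/-- The candidates beside the involution of the second class. -/
def candL : List ℕ :=
  (c2L.map elt).filter fun v => Nat.beq v one ||
    (Nat.beq (comp v v) one && !Nat.beq v T2 && ((fixL T2).all fun m => Nat.beq (app v m) m) &&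
      Nat.beq (fixL (comp T2 v)).length 16)

theorem t1_lines : ((List.range 135).all fun i => !(dispL T1).elem (app (rep i) 1) || Nat.blt i 3) = true := by
  decide +kernel

theorem t1_small : ((List.range 3).all fun i => (List.range 192).all fun j =>
    !Nat.beq (comp (elt (i, j)) T1) (comp T1 (elt (i, j))) || !Nat.beq (comp (elt (i, j)) (elt (i, j))) one ||
    Nat.beq (elt (i, j)) one || Nat.beq (elt (i, j)) T1 ||
    Nat.blt (both T1 (elt (i, j))).length 32) = true := by decide +kernel

theorem fix_sizes : (fixL T1).length = 64 ∧ (fixL T2).length = 16 ∧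
    comp (elt (1, 1)) T1 = comp T1 (elt (1, 1)) ∧ (both T1 (elt (1, 1))).length = 1 ∧
    comp (elt (1, 6)) T2 = comp T2 (elt (1, 6)) ∧ (both T2 (comp (elt (1, 6)) (elt (1, 6)))).length = 1 := by
  decide +kernel

theorem t2_planes : (candL.all fun a => candL.all fun b => !candL.elem (comp a b) || (Nat.beq a one && Nat.beq b one) ||
    (c2L.map elt).any fun s => [a, b].any fun t =>
      [one, a, b, comp a b].all fun r => !Nat.beq (comp (comp s s) t) (comp r (comp s s))) = true := by decide +kernel

end CfsgLib.FiThreeType
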