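/-
An involution whose centraliser has as core a four-group times an extraspecial group of order two to the nine,
extended by an element of order three permuting the four-group: elementary facts.
-/
import Mathlib.GroupTheory.Index
import Mathlib.GroupTheory.Perm.Cycle.Type
import Mathlib.GroupTheory.Subgroup.Simple
import Mathlib.Tactic.Group
import Cfsg.Agent.Lib.Basic

set_option autoImplicit false
set_option linter.unusedVariables false
set_option linter.unusedSectionVars false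
set_option linter.style.haveILetI false

namespace CfsgLib.FiThreeType

/-- The hypotheses. -/
structure Setup (G : Type*) [Group G] (X : Type*) [Group X] where
  z : G
  zz : z * z = 1
  z1 : z ≠ 1
  J : Subgroup G
  zJ : z ∈ J
  Jz : ∀ j ∈ J, Commute j z
  conjJ : ∀ h, Commute h z → ∀ j ∈ J, h * j * h⁻¹ ∈ J
  card : Nat.card J = 2048
  W : Subgroup G
  cardW : Nat.card W = 4
  Wsq : ∀ w ∈ W, w * w = 1
  WJ : W ≤ J
  zW : z ∉ W
  Wc : ∀ w ∈ W, ∀ j ∈ J, Commute w j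
  conjW : ∀ h, Commute h z → ∀ w ∈ W, h * w * h⁻¹ ∈ W
  centre : ∀ m ∈ J, (∀ j ∈ J, Commute m j) → m ∈ W ∨ m * z ∈ W
  comm2 : ∀ a ∈ J, ∀ b ∈ J, Commute a b ∨ a * b = z * (b * a)
  sq2 : ∀ j ∈ J, j * j = 1 ∨ j * j = z
  selfcent : ∀ h, Commute h z → (∀ j ∈ J, Commute h j) → h ∈ J
  c : G
  cz : Commute c z
  c3 : c * c * c = 1
  cfix : ∀ j ∈ J, Commute c j → j = 1 ∨ j = z
  π : ↥(Subgroup.centralizer ({z} : Set G)) →* X
  hπ : Function.Surjective π
  hk : ∀ h, π h = 1 ↔ (h : G) ∈ J ∨ (h : G) * c ∈ J ∨ (h : G) * c * c ∈ J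
  N : Subgroup X
  hN : N.index = 2
  Nsimple : IsSimpleGroup ↥N
  cardN : Nat.card N = 25920
  hcent : ∀ x : X, (∀ n ∈ N, x * n = n * x) → x = 1
  lifts : ∀ x ∈ N, ∃ h, ∃ hh : h ∈ Subgroup.centralizer ({z} : Set G), Commute h c ∧ π ⟨h, hh⟩ = x
  outer : ∀ h (hh : h ∈ Subgroup.centralizer ({z} : Set G)), π ⟨h, hh⟩ ∉ N → h * c * h⁻¹ * c ∈ J

namespace Setup

variable {G : Type*} [Group G] {X : Type*} [Group X] (S : Setup G X)

theorem mem_C {h : G} : h ∈ Subgroup.centralizer ({S.z} : Set G) ↔ Commute h S.z :=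
  Subgroup.mem_centralizer_singleton_iff

theorem J_le_C : S.J ≤ Subgroup.centralizer ({S.z} : Set G) := fun j hj => S.mem_C.mpr (S.Jz j hj)

theorem W_inv {w : G} (hw : w ∈ S.W) : w⁻¹ = w := inv_eq_of_mul_eq_one_right (S.Wsq w hw)

theorem W_comm {v w : G} (hv : v ∈ S.W) (hw : w ∈ S.W) : Commute v w := S.Wc v hv w (S.WJ hw)

theorem Wz {w : G} (hw : w ∈ S.W) : Commute w S.z := S.Jz w (S.WJ hw)

theorem z_inv : S.z⁻¹ = S.z := inv_eq_of_mul_eq_one_right S.zz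

theorem ne_one_conj {h w : G} (h1 : w ≠ 1) : h * w * h⁻¹ ≠ 1 := fun e => h1 (conj_eq_one_iff.mp e)

/-- The second element of the four-group. -/
def nx (w : G) : G := S.c * w * S.c⁻¹

theorem nx_mem {w : G} (hw : w ∈ S.W) : S.nx w ∈ S.W := S.conjW _ S.cz w hw

theorem nx_ne {w : G} (hw : w ∈ S.W) (h1 : w ≠ 1) : S.nx w ≠ w := fun e => by
  rcases S.cfix w (S.WJ hw) (mul_inv_eq_iff_eq_mul.mp e) with e | e
  · exact h1 e
  · exact S.zW (e ▸ hw)

theorem nx_nx {w : G} (hw : w ∈ S.W) : S.nx (S.nx w) = w * S.nx w := by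
  have m1 := S.nx_mem hw
  have m2 := S.nx_mem m1
  set u := w * S.nx w * S.nx (S.nx w) with hu
  have uW : u ∈ S.W := mul_mem (mul_mem hw m1) m2
  have n3 : S.nx (S.nx (S.nx w)) = w := by
    show S.c * (S.c * (S.c * w * S.c⁻¹) * S.c⁻¹) * S.c⁻¹ = w
    rw [show S.c * (S.c * (S.c * w * S.c⁻¹) * S.c⁻¹) * S.c⁻¹ = S.c * S.c * S.c * w * (S.c * S.c * S.c)⁻¹ by group,
      S.c3]
    group
  have fix : S.c * u * S.c⁻¹ = u := by
    calc S.c * u * S.c⁻¹ = S.nx w * S.nx (S.nx w) * S.nx (S.nx (S.nx w)) := by rw [hu]; simp only [nx]; group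
      _ = w * (S.nx w * S.nx (S.nx w)) := by rw [n3]; exact (S.W_comm hw (mul_mem m1 m2)).eq.symm
      _ = u := by rw [hu, mul_assoc]
  have u1 : u = 1 := (S.cfix u (S.WJ uW) (mul_inv_eq_iff_eq_mul.mp fix)).resolve_right fun e => S.zW (e ▸ uW)
  rw [hu] at u1
  rw [← inv_eq_of_mul_eq_one_right u1, S.W_inv (mul_mem hw m1)]

theorem W_eq {w v : G} (hw : w ∈ S.W) (h1 : w ≠ 1) (hv : v ∈ S.W) :
    v = 1 ∨ v = w ∨ v = S.nx w ∨ v = w * S.nx w := by
  classical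
  haveI : Finite ↥S.W := Nat.finite_of_card_ne_zero (by rw [S.cardW]; norm_num)
  haveI : Fintype ↥S.W := Fintype.ofFinite _
  let T : Finset ↥S.W := {1, ⟨w, hw⟩, ⟨S.nx w, S.nx_mem hw⟩, ⟨w * S.nx w, mul_mem hw (S.nx_mem hw)⟩}
  have hT : T.card = 4 := by
    have n1 : S.nx w ≠ 1 := ne_one_conj h1
    have n2 : w * S.nx w ≠ 1 := fun e => S.nx_ne hw h1 ((inv_eq_of_mul_eq_one_right e).symm.trans (S.W_inv hw))
    have n3 : w * S.nx w ≠ w := fun e => n1 (mul_eq_left.mp e)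
    have n4 : w * S.nx w ≠ S.nx w := fun e => h1 (mul_eq_right.mp e)
    simp [T, Finset.card_insert_of_notMem, Subtype.ext_iff, h1.symm, n1.symm, n2.symm, (S.nx_ne hw h1).symm, n3.symm,
      n4.symm]
  have hu : T = Finset.univ := Finset.eq_univ_of_card T (by rw [hT, ← Nat.card_eq_fintype_card, S.cardW])
  have := hu ▸ Finset.mem_univ (⟨v, hv⟩ : ↥S.W)
  simpa [T, Subtype.ext_iff] using this

/-- The elements of the centraliser acting in the subgroup of index two. -/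
def In (h : G) : Prop := ∃ hh : h ∈ Subgroup.centralizer ({S.z} : Set G), S.π ⟨h, hh⟩ ∈ S.N

theorem In_comm {h : G} (hh : S.In h) : Commute h S.z := S.mem_C.mp hh.1

theorem In_J {j : G} (hj : j ∈ S.J) : S.In j :=
  ⟨S.mem_C.mpr (S.Jz j hj), by rw [(S.hk _).mpr (Or.inl hj)]; exact one_mem _⟩

theorem normalN : S.N.Normal := Subgroup.normal_of_index_eq_two S.hN

theorem In_mul {a b : G} (ha : S.In a) (hb : S.In b) : S.In (a * b) := by
  obtain ⟨ha, pa⟩ := ha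
  obtain ⟨hb, pb⟩ := hb
  exact ⟨mul_mem ha hb, show S.π (⟨a, ha⟩ * ⟨b, hb⟩) ∈ S.N by rw [map_mul]; exact mul_mem pa pb⟩

theorem In_inv {a : G} (ha : S.In a) : S.In a⁻¹ := by
  obtain ⟨ha, pa⟩ := ha
  exact ⟨inv_mem ha, show S.π (⟨a, ha⟩⁻¹) ∈ S.N by rw [map_inv]; exact inv_mem pa⟩

theorem In_conj {a h : G} (ha : S.In a) (hh : Commute h S.z) : S.In (h * a * h⁻¹) := by
  obtain ⟨ha, pa⟩ := ha
  have hh' := S.mem_C.mpr hh
  refine ⟨mul_mem (mul_mem hh' ha) (inv_mem hh'), ?_⟩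
  show S.π (⟨h, hh'⟩ * ⟨a, ha⟩ * ⟨h, hh'⟩⁻¹) ∈ S.N
  rw [map_mul, map_mul, map_inv]
  exact S.normalN.conj_mem _ pa _

theorem In_c : S.In S.c := by
  refine ⟨S.mem_C.mpr S.cz, ?_⟩
  rw [(S.hk _).mpr (Or.inr (Or.inr (by show S.c * S.c * S.c ∈ S.J; rw [S.c3]; exact one_mem _)))]
  exact one_mem _

theorem In_two {a b : G} (ha : Commute a S.z) (hb : Commute b S.z) (na : ¬ S.In a) (nb : ¬ S.In b) : S.In (a * b) := by
  refine ⟨mul_mem (S.mem_C.mpr ha) (S.mem_C.mpr hb), ?_⟩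
  show S.π (⟨a, S.mem_C.mpr ha⟩ * ⟨b, S.mem_C.mpr hb⟩) ∈ S.N
  rw [map_mul, Subgroup.mul_mem_iff_of_index_two S.hN]
  exact iff_of_false (fun h => na ⟨_, h⟩) fun h => nb ⟨_, h⟩

theorem J_fix {j w : G} (hj : j ∈ S.J) (hw : w ∈ S.W) : j * w * j⁻¹ = w := by
  rw [← (S.Wc w hw j hj).eq, mul_inv_cancel_right]

theorem nx_mul {v w : G} : S.nx (v * w) = S.nx v * S.nx w := by simp only [nx]; group

/-- An element of the preimage of the simple group fixing a non-trivial element centralises the four-group. -/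
theorem In_fix {h w : G} (hh : S.In h) (hw : w ∈ S.W) (h1 : w ≠ 1) (hf : Commute h w) :
    ∀ v ∈ S.W, Commute h v := by
  obtain ⟨hC, hp⟩ := hh
  obtain ⟨k, kC, kc, ek⟩ := S.lifts _ hp
  have kz : Commute k S.z := S.mem_C.mp kC
  have hkc : ∀ v : G, k * S.nx v * k⁻¹ = S.nx (k * v * k⁻¹) := fun v => by
    simp only [nx]
    calc k * (S.c * v * S.c⁻¹) * k⁻¹ = (k * S.c) * v * (k * S.c)⁻¹ := by group
      _ = _ := by rw [kc.eq]; group
  -- the conjugating element differs by a core element and a power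
  obtain ⟨j, hj, ε, hε⟩ : ∃ j ∈ S.J, ∃ ε : G, (ε = 1 ∨ ε = S.c ∨ ε = S.c * S.c) ∧ h = k * j * ε := by
    have e1 : S.π (⟨k, kC⟩⁻¹ * ⟨h, hC⟩) = 1 := by rw [map_mul, map_inv, ek, inv_mul_cancel]
    rcases (S.hk _).mp e1 with e | e | e
    · exact ⟨_, e, 1, Or.inl rfl, by show h = k * (k⁻¹ * h) * 1; group⟩
    · exact ⟨_, e, S.c * S.c, Or.inr (Or.inr rfl), by
        show h = k * (k⁻¹ * h * S.c) * (S.c * S.c)
        rw [show k * (k⁻¹ * h * S.c) * (S.c * S.c) = h * (S.c * S.c * S.c) by group, S.c3, mul_one]⟩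
    · exact ⟨_, e, S.c, Or.inr (Or.inl rfl), by
        show h = k * (k⁻¹ * h * S.c * S.c) * S.c
        rw [show k * (k⁻¹ * h * S.c * S.c) * S.c = h * (S.c * S.c * S.c) by group, S.c3, mul_one]⟩
  have εc : Commute ε S.c := by
    rcases hε.1 with rfl | rfl | rfl
    exacts [Commute.one_left _, Commute.refl _, (Commute.refl S.c).mul_left (Commute.refl _)]
  have act : ∀ v ∈ S.W, h * S.nx v * h⁻¹ = S.nx (h * v * h⁻¹) := fun v hv => by
    have em : ∀ u ∈ S.W, h * u * h⁻¹ = k * (ε * u * ε⁻¹) * k⁻¹ := fun u hu => by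
      have hu' : ε * u * ε⁻¹ ∈ S.W := by
        rcases hε.1 with rfl | rfl | rfl
        · simpa using hu
        · exact S.nx_mem hu
        · rw [show S.c * S.c * u * (S.c * S.c)⁻¹ = S.nx (S.nx u) by simp only [nx]; group]
          exact S.nx_mem (S.nx_mem hu)
      rw [hε.2, show k * j * ε * u * (k * j * ε)⁻¹ = k * (j * (ε * u * ε⁻¹) * j⁻¹) * k⁻¹ by group, S.J_fix hj hu']
    rw [em _ (S.nx_mem hv), em _ hv, ← hkc]
    congr 2
    simp only [nx]
    calc ε * (S.c * v * S.c⁻¹) * ε⁻¹ = (ε * S.c) * v * (ε * S.c)⁻¹ := by group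
      _ = _ := by rw [εc.eq]; group
  have e1 : h * w * h⁻¹ = w := by rw [hf.eq, mul_inv_cancel_right]
  have e2 : Commute h (S.nx w) := mul_inv_eq_iff_eq_mul.mp (by rw [act w hw, e1])
  intro v hv
  rcases S.W_eq hw h1 hv with rfl | rfl | rfl | rfl
  exacts [Commute.one_right _, hf, e2, hf.mul_right e2]

/-- An element outside fixing a non-trivial element moves the second one. -/
theorem outer_move {h w : G} (hh : Commute h S.z) (hn : ¬ S.In h) (hw : w ∈ S.W) (h1 : w ≠ 1) (hf : Commute h w) :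
    h * S.nx w * h⁻¹ = w * S.nx w := by
  have hj := S.outer h (S.mem_C.mpr hh) fun e => hn ⟨_, e⟩
  set j := h * S.c * h⁻¹ * S.c with hjd
  have e : h * S.c * h⁻¹ = j * S.c⁻¹ := by rw [hjd]; group
  have e3 : h * S.nx w * h⁻¹ = j * (S.c⁻¹ * w * S.c) * j⁻¹ := by
    have ew : h * w * h⁻¹ = w := by rw [hf.eq, mul_inv_cancel_right]
    calc h * S.nx w * h⁻¹ = (h * S.c * h⁻¹) * (h * w * h⁻¹) * (h * S.c * h⁻¹)⁻¹ := by simp only [nx]; group
      _ = _ := by rw [e, ew]; group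
  have ci : S.c⁻¹ * w * S.c = S.nx (S.nx w) := by
    have hc : S.c⁻¹ = S.c * S.c := inv_eq_of_mul_eq_one_right (by rw [← mul_assoc]; exact S.c3)
    rw [show S.c⁻¹ * w * S.c = S.c⁻¹ * w * S.c⁻¹⁻¹ by group, hc]
    simp only [nx]; group
  rw [e3, ci, S.J_fix hj (S.nx_mem (S.nx_mem hw)), S.nx_nx hw]

/-- An element whose square is trivial fixes a non-trivial element of the four-group. -/
theorem exists_fix {h : G} (hh : Commute h S.z) (h2 : h * h = 1) : ∃ w ∈ S.W, w ≠ 1 ∧ Commute h w := by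
  obtain ⟨⟨w, hw⟩, h1'⟩ : ∃ w : ↥S.W, w ≠ 1 := by
    haveI : Finite ↥S.W := Nat.finite_of_card_ne_zero (by rw [S.cardW]; norm_num)
    haveI : Nontrivial ↥S.W := by rw [← Finite.one_lt_card_iff_nontrivial, S.cardW]; norm_num
    exact exists_ne 1
  have h1 : w ≠ 1 := fun e => h1' (Subtype.ext e)
  have hu := S.conjW h hh w hw
  by_cases e : h * w * h⁻¹ = w
  · exact ⟨w, hw, h1, mul_inv_eq_iff_eq_mul.mp e⟩
  · refine ⟨w * (h * w * h⁻¹), mul_mem hw hu, fun e' => e ?_, mul_inv_eq_iff_eq_mul.mp ?_⟩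
    · rw [← inv_eq_of_mul_eq_one_right e', S.W_inv hw]
    · calc h * (w * (h * w * h⁻¹)) * h⁻¹ = h * w * h⁻¹ * (h * h * w * (h * h)⁻¹) := by group
        _ = h * w * h⁻¹ * w := by rw [h2]; group
        _ = _ := (S.W_comm hu hw).eq

/-- A conjugate by a power fixing a given element. -/
theorem exists_stab {h w : G} (hh : Commute h S.z) (hw : w ∈ S.W) (h1 : w ≠ 1) :
    ∃ ε : G, (ε = 1 ∨ ε = S.c ∨ ε = S.c * S.c) ∧ Commute (ε * h) w := by
  have hu := S.conjW h hh w hw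
  rcases S.W_eq hu (ne_one_conj h1) hw with e | e | e | e
  · exact absurd e h1
  · exact ⟨1, Or.inl rfl, by rw [one_mul]; exact mul_inv_eq_iff_eq_mul.mp e.symm⟩
  · refine ⟨S.c, Or.inr (Or.inl rfl), mul_inv_eq_iff_eq_mul.mp ?_⟩
    rw [show S.c * h * w * (S.c * h)⁻¹ = S.nx (h * w * h⁻¹) by simp only [nx]; group]
    exact e.symm
  · refine ⟨S.c * S.c, Or.inr (Or.inr rfl), mul_inv_eq_iff_eq_mul.mp ?_⟩
    rw [show S.c * S.c * h * w * (S.c * S.c * h)⁻¹ = S.nx (S.nx (h * w * h⁻¹)) by simp only [nx]; group, S.nx_nx hu]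
    exact e.symm

end Setup

end CfsgLib.FiThreeType
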