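/-
The centraliser of an involution of the centre of the core modulo that involution carries the configuration of
the smaller Fischer group.
-/
import Cfsg.Agent.Lib.FiThreeType.Setup
import Cfsg.Agent.Lib.FiTwoType.Base

set_option autoImplicit false
set_option linter.unusedVariables false
set_option linter.unusedSectionVars false
set_option linter.style.haveILetI false

namespace CfsgLib.FiThreeType

namespace Setup

variable {G : Type*} [Group G] [Finite G] {X : Type*} [Group X] (S : Setup G X)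

theorem orderOf_z : orderOf S.z = 2 := orderOf_eq_prime (by rw [pow_two, S.zz]) S.z1

theorem isPGroup_J : IsPGroup 2 S.J := IsPGroup.of_card (n := 11) (by rw [S.card]; norm_num)

/-- A two-subgroup normalised by the stabiliser of a non-trivial element lies in the core. -/
theorem two_le {w : G} (hw : w ∈ S.W) (h1 : w ≠ 1) {P : Subgroup G} (hP : IsPGroup 2 P)
    (hle : ∀ p ∈ P, Commute p S.z ∧ Commute p w)
    (hn : ∀ h, Commute h S.z → Commute h w → ∀ p ∈ P, h * p * h⁻¹ ∈ P) : P ≤ S.J := by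
  classical
  haveI : Fact (Nat.Prime 2) := ⟨Nat.prime_two⟩
  haveI : Finite X := Finite.of_surjective S.π S.hπ
  set C := Subgroup.centralizer ({S.z} : Set G) with hC
  have hPC : P ≤ C := fun p hp => S.mem_C.mpr (hle p hp).1
  set Q := (P.subgroupOf C).map S.π with hQ
  have hQ2 : IsPGroup 2 Q := (hP.comap_subtype : IsPGroup 2 (P.subgroupOf C)).map _
  have hQn : Q.Normal := by
    refine ⟨?_⟩
    rintro _ ⟨p, hp, rfl⟩ x
    obtain ⟨h, rfl⟩ := S.hπ x
    obtain ⟨ε, hε, hf⟩ := S.exists_stab (S.mem_C.mp h.2) hw h1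
    have εz : Commute ε S.z := by rcases hε with rfl | rfl | rfl; exacts [Commute.one_left _, S.cz, S.cz.mul_left S.cz]
    refine ⟨⟨ε * h * p * (ε * h)⁻¹, S.mem_C.mpr (((εz.mul_left (S.mem_C.mp h.2)).mul_left (S.mem_C.mp p.2)).mul_left
      (εz.mul_left (S.mem_C.mp h.2)).inv_left)⟩, hn _ (εz.mul_left (S.mem_C.mp h.2)) hf _ hp, ?_⟩
    have e1 : S.π ⟨ε, S.mem_C.mpr εz⟩ = 1 := by
      rw [S.hk]
      rcases hε with rfl | rfl | rfl
      · exact Or.inl (one_mem _)
      · exact Or.inr (Or.inr (by show S.c * S.c * S.c ∈ S.J; rw [S.c3]; exact one_mem _))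
      · exact Or.inr (Or.inl (by show S.c * S.c * S.c ∈ S.J; rw [S.c3]; exact one_mem _))
    show S.π (⟨ε, S.mem_C.mpr εz⟩ * h * p * (⟨ε, S.mem_C.mpr εz⟩ * h)⁻¹) = _
    rw [map_mul, map_mul, map_inv, map_mul, e1, one_mul]
  haveI := S.normalN
  haveI := S.Nsimple
  have htriv : Q ⊓ S.N = ⊥ := by
    rcases (inferInstance : ((Q ⊓ S.N).subgroupOf S.N).Normal).eq_bot_or_eq_top with h | h
    · rw [eq_bot_iff]
      intro x hx
      have : (⟨x, hx.2⟩ : ↥S.N) ∈ (Q ⊓ S.N).subgroupOf S.N := Subgroup.mem_subgroupOf.mpr hx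
      rw [h, Subgroup.mem_bot] at this
      exact Subgroup.mem_bot.mpr (congrArg Subtype.val this)
    · exfalso
      obtain ⟨k, hk⟩ := IsPGroup.iff_card.mp hQ2
      have h5 : Nat.card S.N ∣ 2 ^ k := hk ▸ Subgroup.card_dvd_of_le
        ((Subgroup.subgroupOf_eq_top.mp h).trans inf_le_left)
      rw [S.cardN] at h5
      exact absurd (Nat.Prime.dvd_of_dvd_pow (show Nat.Prime 5 by norm_num) ((show 5 ∣ 25920 by norm_num).trans h5))
        (by norm_num)
  intro p hp
  have hx : S.π ⟨p, hPC hp⟩ = 1 := S.hcent _ fun n hn' =>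
    Subgroup.commute_of_normal_of_disjoint _ _ hQn S.normalN (disjoint_iff.mpr htriv) _ n ⟨⟨p, hPC hp⟩, hp, rfl⟩ hn'
  rcases (S.hk _).mp hx with e | e | e
  · exact e
  all_goals exfalso; refine S.nx_ne hw h1 ?_
  · have h2 := S.J_fix e hw
    rw [show (p : G) * S.c * w * ((p : G) * S.c)⁻¹ = p * S.nx w * p⁻¹ by simp only [nx]; group] at h2
    calc S.nx w = p⁻¹ * (p * S.nx w * p⁻¹) * p := by group
      _ = w := by rw [h2, mul_assoc, ← (hle p hp).2.eq, inv_mul_cancel_left]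
  · have h2 := S.J_fix e hw
    rw [show (p : G) * S.c * S.c * w * ((p : G) * S.c * S.c)⁻¹ = p * S.nx (S.nx w) * p⁻¹ by simp only [nx]; group] at h2
    have e2 : S.nx (S.nx w) = w := by
      calc S.nx (S.nx w) = p⁻¹ * (p * S.nx (S.nx w) * p⁻¹) * p := by group
        _ = w := by rw [h2, mul_assoc, ← (hle p hp).2.eq, inv_mul_cancel_left]
    rw [S.nx_nx hw] at e2
    exact absurd (mul_eq_left.mp e2) (ne_one_conj h1)

/-- A point: an involution of the centre of the core and a subgroup of its centraliser. -/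
structure Pt where
  x : G
  w : G
  hw : w ∈ S.W
  w1 : w ≠ 1
  hx : x = w ∨ x = S.z * w
  L : Subgroup G
  Lx : ∀ g ∈ L, Commute g x
  HL : ∀ h, Commute h S.z → Commute h w → h ∈ L
  lift : ∀ g ∈ L, g * S.z * g⁻¹ ≠ S.z * x

variable {S} (P : S.Pt)

namespace Pt

theorem xJ : P.x ∈ S.J := by
  rcases P.hx with e | e <;> rw [e]
  exacts [S.WJ P.hw, mul_mem S.zJ (S.WJ P.hw)]

theorem xz : Commute P.x S.z := S.Jz _ P.xJ

theorem fix_w {h : G} (hh : Commute h S.z) (hx : Commute h P.x) : Commute h P.w := by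
  rcases P.hx with e | e
  · exact e ▸ hx
  · have := hh.mul_right (e ▸ hx)
    rwa [← mul_assoc, S.zz, one_mul] at this

theorem fix_x {h : G} (hh : Commute h S.z) (hw : Commute h P.w) : Commute h P.x := by
  rcases P.hx with e | e <;> rw [e]
  exacts [hw, hh.mul_right hw]

theorem xc {j : G} (hj : j ∈ S.J) : Commute j P.x := P.fix_x (S.Jz j hj) (S.Wc _ P.hw j hj).symm

theorem J_L : S.J ≤ P.L := fun j hj => P.HL j (S.Jz j hj) (S.Wc _ P.hw j hj).symm

theorem x_ne : P.x ≠ 1 := by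
  rcases P.hx with e | e <;> rw [e]
  · exact P.w1
  · exact fun h => S.zW (by rw [show S.z = P.w from (mul_eq_one_iff_eq_inv.mp h).trans (S.W_inv P.hw)]; exact P.hw)

theorem x_sq : P.x * P.x = 1 := by
  rcases P.hx with e | e <;> rw [e]
  · exact S.Wsq _ P.hw
  · rw [(S.Wz P.hw).mul_mul_mul_comm, S.zz, S.Wsq _ P.hw, mul_one]

theorem x_ne_z : P.x ≠ S.z := by
  rcases P.hx with e | e <;> rw [e]
  · exact fun h => S.zW (h ▸ P.hw)
  · exact fun h => P.w1 (mul_eq_left.mp h)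

/-- The involution in the subgroup. -/
def xL : ↥P.L := ⟨P.x, P.J_L P.xJ⟩

/-- The first involution in the subgroup. -/
def zL : ↥P.L := ⟨S.z, P.J_L S.zJ⟩

/-- The second involution in the subgroup. -/
def yL : ↥P.L := ⟨S.nx P.w, P.J_L (S.WJ (S.nx_mem P.hw))⟩

instance : (Subgroup.zpowers P.xL).Normal := ⟨fun n hn g => by
  obtain ⟨i, rfl⟩ := Subgroup.mem_zpowers_iff.mp hn
  have h : Commute g P.xL := Subtype.ext (P.Lx g g.2).eq
  rw [(h.zpow_right i).eq, mul_inv_cancel_right]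
  exact hn⟩

/-- The quotient. -/
abbrev Q := ↥P.L ⧸ Subgroup.zpowers P.xL

theorem mk_one {g : ↥P.L} : (QuotientGroup.mk g : P.Q) = 1 ↔ (g : G) = 1 ∨ (g : G) = P.x := by
  rw [QuotientGroup.eq_one_iff, Subgroup.mem_zpowers_iff]
  constructor
  · rintro ⟨i, rfl⟩
    have dd : P.xL * P.xL = 1 := Subtype.ext P.x_sq
    rcases Int.even_or_odd i with ⟨m, rfl⟩ | ⟨m, rfl⟩
    · left; rw [← two_mul, zpow_mul, zpow_two, dd, one_zpow]; rfl
    · right; rw [zpow_add_one, zpow_mul, zpow_two, dd, one_zpow, one_mul]; rfl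
  · rintro (h | h)
    exacts [⟨0, by rw [zpow_zero]; exact Subtype.ext h.symm⟩, ⟨1, by rw [zpow_one]; exact Subtype.ext h.symm⟩]

theorem mk_eq {g h : ↥P.L} : (QuotientGroup.mk g : P.Q) = QuotientGroup.mk h ↔
    (g : G) = h ∨ (g : G) = h * P.x := by
  rw [← inv_mul_eq_one, ← QuotientGroup.mk_inv, ← QuotientGroup.mk_mul, P.mk_one]
  show ((g : G)⁻¹ * h = 1 ∨ (g : G)⁻¹ * h = P.x) ↔ _
  rw [inv_mul_eq_one, inv_mul_eq_iff_eq_mul]
  refine or_congr Iff.rfl ⟨fun e => ?_, fun e => ?_⟩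
  · rw [e, mul_assoc, P.x_sq, mul_one]
  · rw [e, mul_assoc, P.x_sq, mul_one]

theorem lift_comm {g : ↥P.L} (h : Commute (QuotientGroup.mk g : P.Q) (QuotientGroup.mk P.zL)) :
    Commute (g : G) S.z := by
  have e : (QuotientGroup.mk (g * P.zL) : P.Q) = QuotientGroup.mk (P.zL * g) := h.eq
  rcases P.mk_eq.mp e with e | e
  · exact e
  · exfalso
    refine P.lift (g : G) g.2 ?_
    have e' : (g : G) * S.z = S.z * g * P.x := e
    rw [e', mul_assoc S.z, (P.Lx g g.2).eq, ← mul_assoc, mul_inv_cancel_right]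

/-- The image of the core. -/
def Jb : Subgroup P.Q := (S.J.subgroupOf P.L).map (QuotientGroup.mk' _)

theorem mem_Jb {g : ↥P.L} : (QuotientGroup.mk g : P.Q) ∈ P.Jb ↔ (g : G) ∈ S.J := by
  constructor
  · rintro ⟨j, hj, e⟩
    rcases P.mk_eq.mp (e.symm : (QuotientGroup.mk g : P.Q) = QuotientGroup.mk j) with e | e <;> rw [e]
    exacts [hj, mul_mem (show (j : G) ∈ S.J from hj) P.xJ]
  · exact fun h => ⟨g, h, rfl⟩

theorem z_ne_x {a b : G} (ha : a ∈ S.J) (hb : b ∈ S.J) (e : a * b = b * a * P.x) : False := by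
  rcases S.comm2 a ha b hb with c | c
  · rw [c.eq] at e; exact P.x_ne (left_eq_mul.mp e)
  · rw [c, ← (S.Jz _ (mul_mem hb ha)).eq] at e; exact P.x_ne_z (mul_left_cancel e).symm

theorem comm_lift {a b : ↥P.L} (ha : (a : G) ∈ S.J) (hb : (b : G) ∈ S.J)
    (h : Commute (QuotientGroup.mk a : P.Q) (QuotientGroup.mk b)) : Commute (a : G) b := by
  have e : (QuotientGroup.mk (a * b) : P.Q) = QuotientGroup.mk (b * a) := h.eq
  exact (P.mk_eq.mp e).resolve_right fun e => P.z_ne_x ha hb e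

/-- Elements acting trivially on the core modulo the involution. -/
theorem ker_x {h : G} (hh : Commute h S.z) (hx : Commute h P.x)
    (hc : ∀ j ∈ S.J, h * j * h⁻¹ = j ∨ h * j * h⁻¹ = j * P.x) : h ∈ S.J := by
  classical
  let K : Subgroup G :=
    { carrier := {k | Commute k S.z ∧ Commute k P.x ∧ ∀ j ∈ S.J, k * j * k⁻¹ = j ∨ k * j * k⁻¹ = j * P.x}
      one_mem' := ⟨Commute.one_left _, Commute.one_left _, fun j _ => Or.inl (by simp)⟩
      mul_mem' := fun {a b} ⟨az, ax, ha⟩ ⟨bz, bx, hb⟩ => ⟨az.mul_left bz, ax.mul_left bx, fun j hj => by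
        rw [show a * b * j * (a * b)⁻¹ = a * (b * j * b⁻¹) * a⁻¹ by group]
        rcases hb j hj with e | e <;> rw [e]
        · exact ha j hj
        · rw [show a * (j * P.x) * a⁻¹ = a * j * a⁻¹ * (a * P.x * a⁻¹) by group, ax.eq, mul_inv_cancel_right]
          rcases ha j hj with e | e <;> rw [e]
          · exact Or.inr rfl
          · left; rw [mul_assoc, P.x_sq, mul_one]⟩
      inv_mem' := fun {a} ⟨az, ax, ha⟩ => ⟨az.inv_left, ax.inv_left, fun j hj => by
        rw [inv_inv]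
        rcases ha j hj with e | e
        · left
          calc a⁻¹ * j * a = a⁻¹ * (a * j * a⁻¹) * a := by rw [e]
            _ = j := by group
        · right
          calc a⁻¹ * j * a = a⁻¹ * (a * j * a⁻¹ * P.x) * a := by rw [e, mul_assoc j, P.x_sq, mul_one]
            _ = j * (a⁻¹ * P.x * a) := by group
            _ = _ := by rw [ax.inv_left.eq, inv_mul_cancel_right]⟩ }
  haveI : Fact (Nat.Prime 2) := ⟨Nat.prime_two⟩
  have hK2 : IsPGroup 2 K := by
    rintro ⟨k, kz, kx, hk⟩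
    have hJ : k * k ∈ S.J := S.selfcent _ (kz.mul_left kz) fun j hj => mul_inv_eq_iff_eq_mul.mp (by
      rw [show k * k * j * (k * k)⁻¹ = k * (k * j * k⁻¹) * k⁻¹ by group]
      rcases hk j hj with e | e
      · rw [e, e]
      · rw [e, show k * (j * P.x) * k⁻¹ = k * j * k⁻¹ * (k * P.x * k⁻¹) by group, e, kx.eq, mul_inv_cancel_right,
          mul_assoc, P.x_sq, mul_one])
    refine ⟨3, Subtype.ext ?_⟩
    show k ^ (2 ^ 3) = 1
    rw [show k ^ (2 ^ 3) = k * k * (k * k) * (k * k * (k * k)) by simp [pow_succ, mul_assoc]]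
    rcases S.sq2 _ hJ with e | e <;> rw [e]
    exacts [one_mul 1, S.zz]
  exact S.two_le P.hw P.w1 hK2 (fun k hk => ⟨hk.1, P.fix_w hk.1 hk.2.1⟩) (fun g gz gw k hk => by
    have gx := P.fix_x gz gw
    refine ⟨(gz.mul_left hk.1).mul_left gz.inv_left, (gx.mul_left hk.2.1).mul_left gx.inv_left, fun j hj => ?_⟩
    have hj' : g⁻¹ * j * g ∈ S.J := by simpa using S.conjJ _ gz.inv_left j hj
    rw [show g * k * g⁻¹ * j * (g * k * g⁻¹)⁻¹ = g * (k * (g⁻¹ * j * g) * k⁻¹) * g⁻¹ by group]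
    rcases hk.2.2 _ hj' with e | e <;> rw [e]
    · left; group
    · right
      rw [show g * (g⁻¹ * j * g * P.x) * g⁻¹ = j * (g * P.x * g⁻¹) by group, gx.eq, mul_inv_cancel_right])
    (show h ∈ K from ⟨hh, hx, hc⟩)

theorem comm_mk {g : ↥P.L} (h : Commute (g : G) S.z) : Commute (QuotientGroup.mk g : P.Q) (QuotientGroup.mk P.zL) :=
  (show Commute g P.zL from Subtype.ext h.eq).map (QuotientGroup.mk' _)

/-- The image in the quotient of the centraliser of the image. -/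
noncomputable def toX : ↥(Subgroup.centralizer ({(QuotientGroup.mk P.zL : P.Q)} : Set P.Q)) →* X :=
  MonoidHom.mk' (fun h => S.π ⟨((h : P.Q).out : ↥P.L), S.mem_C.mpr (P.lift_comm (by
      rw [QuotientGroup.out_eq']; exact Subgroup.mem_centralizer_singleton_iff.mp h.2))⟩)
    fun a b => by
      rw [← map_mul, ← inv_mul_eq_one, ← map_inv, ← map_mul, S.hk]
      left
      have e : (QuotientGroup.mk ((a * b : ↥(Subgroup.centralizer ({(QuotientGroup.mk P.zL : P.Q)} : Set P.Q))) : P.Q).out : P.Q) =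
          QuotientGroup.mk ((a : P.Q).out * (b : P.Q).out) := by
        rw [QuotientGroup.out_eq', QuotientGroup.mk_mul, QuotientGroup.out_eq', QuotientGroup.out_eq']; rfl
      rcases P.mk_eq.mp e with e | e
      · show (_ : G)⁻¹ * (_ * _) ∈ S.J
        rw [e]; simp
      · show (_ : G)⁻¹ * (_ * _) ∈ S.J
        rw [e, Subgroup.coe_mul, mul_inv_rev, inv_mul_cancel_right]; exact inv_mem P.xJ

theorem toX_mk (g : ↥P.L) (hg : Commute (g : G) S.z)
    (hq : (QuotientGroup.mk g : P.Q) ∈ Subgroup.centralizer ({(QuotientGroup.mk P.zL : P.Q)} : Set P.Q)) :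
    P.toX ⟨_, hq⟩ = S.π ⟨g, S.mem_C.mpr hg⟩ := by
  show S.π _ = S.π _
  rw [← inv_mul_eq_one, ← map_inv, ← map_mul, S.hk]
  left
  show (((QuotientGroup.mk g : P.Q).out : ↥P.L) : G)⁻¹ * g ∈ S.J
  rcases P.mk_eq.mp (QuotientGroup.out_eq' (QuotientGroup.mk g : P.Q)) with e | e <;> rw [e]
  · simp
  · simp [P.xJ]

theorem mem_CQ {g : ↥P.L} (hg : Commute (g : G) S.z) :
    (QuotientGroup.mk g : P.Q) ∈ Subgroup.centralizer ({(QuotientGroup.mk P.zL : P.Q)} : Set P.Q) :=
  Subgroup.mem_centralizer_singleton_iff.mpr (P.comm_mk hg).eq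

theorem toX_surj : Function.Surjective P.toX := fun v => by
  obtain ⟨h, rfl⟩ := S.hπ v
  obtain ⟨ε, hε, hf⟩ := S.exists_stab (S.mem_C.mp h.2) P.hw P.w1
  have εz : Commute ε S.z := by rcases hε with rfl | rfl | rfl; exacts [Commute.one_left _, S.cz, S.cz.mul_left S.cz]
  have hz := εz.mul_left (S.mem_C.mp h.2)
  refine ⟨⟨_, P.mem_CQ (g := ⟨ε * h, P.HL _ hz hf⟩) hz⟩, (P.toX_mk _ hz _).trans ?_⟩
  show S.π (⟨ε, S.mem_C.mpr εz⟩ * h) = _
  rw [map_mul, show S.π ⟨ε, S.mem_C.mpr εz⟩ = 1 by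
    rw [S.hk]
    rcases hε with rfl | rfl | rfl
    · exact Or.inl (one_mem _)
    · exact Or.inr (Or.inr (by show S.c * S.c * S.c ∈ S.J; rw [S.c3]; exact one_mem _))
    · exact Or.inr (Or.inl (by show S.c * S.c * S.c ∈ S.J; rw [S.c3]; exact one_mem _)), one_mul]

theorem toX_ker : ∀ h, P.toX h = 1 ↔ (h : P.Q) ∈ P.Jb := by
  intro h
  have hz : Commute ((h : P.Q).out : G) S.z := P.lift_comm (by
    rw [QuotientGroup.out_eq']; exact Subgroup.mem_centralizer_singleton_iff.mp h.2)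
  have hw := P.fix_w hz (P.Lx _ (h : P.Q).out.2)
  conv_rhs => rw [← QuotientGroup.out_eq' (h : P.Q), P.mem_Jb]
  show S.π ⟨_, _⟩ = 1 ↔ _
  rw [S.hk]
  refine ⟨fun e => ?_, Or.inl⟩
  rcases e with e | e | e
  · exact e
  all_goals exfalso
  · have h2 := S.In_fix (S.In_J e) P.hw P.w1 (S.Wc _ P.hw _ e).symm
    refine S.nx_ne P.hw P.w1 ?_
    have h3 := hw.inv_left.mul_left (h2 _ P.hw)
    rw [inv_mul_cancel_left] at h3
    simp only [nx]; rw [h3.eq, mul_inv_cancel_right]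
  · have h3 := hw.inv_left.mul_left (show Commute (((h : P.Q).out : G) * (S.c * S.c)) P.w by
      rw [← mul_assoc]; exact (S.Wc _ P.hw _ e).symm)
    rw [inv_mul_cancel_left] at h3
    have e2 : S.nx (S.nx P.w) = P.w := by
      rw [show S.nx (S.nx P.w) = S.c * S.c * P.w * (S.c * S.c)⁻¹ by simp only [nx]; group, h3.eq, mul_inv_cancel_right]
    rw [S.nx_nx P.hw] at e2
    exact absurd (mul_eq_left.mp e2) (ne_one_conj P.w1)

theorem card_Jb : Nat.card P.Jb = 1024 := by
  let f : ↥S.J →* P.Q := (QuotientGroup.mk' _).comp (Subgroup.inclusion P.J_L)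
  have hr : f.range = P.Jb := by
    ext q
    constructor
    · rintro ⟨j, rfl⟩; exact ⟨_, j.2, rfl⟩
    · rintro ⟨j, hj, rfl⟩; exact ⟨⟨j, hj⟩, rfl⟩
  have hker : Nat.card f.ker = 2 := by
    refine (Nat.card_eq_two_iff' (1 : ↥f.ker)).mpr ⟨⟨⟨P.x, P.xJ⟩, P.mk_one.mpr (Or.inr rfl)⟩, ?_, ?_⟩
    · exact fun e => P.x_ne (congrArg (fun w : ↥f.ker => ((w : ↥S.J) : G)) e)
    · rintro ⟨⟨j, hj⟩, hk⟩ hne
      rcases P.mk_one.mp hk with e | e
      · exact absurd (Subtype.ext (Subtype.ext e)) hne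
      · exact Subtype.ext (Subtype.ext e)
  have := f.ker.index_mul_card
  rw [Subgroup.index_ker, hr, hker, S.card] at this
  omega

/-- The configuration on the quotient. -/
noncomputable def base : FiTwoType.Base P.Q X where
  z := QuotientGroup.mk P.zL
  d := QuotientGroup.mk P.yL
  zz := P.mk_one.mpr (Or.inl S.zz)
  dd := P.mk_one.mpr (Or.inl (S.Wsq _ (S.nx_mem P.hw)))
  z1 := fun h => (P.mk_one.mp h).elim S.z1 fun e => P.x_ne_z (show S.z = P.x from e).symm
  d1 := fun h => by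
    have hy := S.nx_mem P.hw
    rcases P.mk_one.mp h with (e : S.nx P.w = 1) | (e : S.nx P.w = P.x)
    · exact absurd e (ne_one_conj P.w1)
    · rcases P.hx with e' | e' <;> rw [e'] at e
      · exact S.nx_ne P.hw P.w1 e
      · exact S.zW (by rw [← mul_inv_cancel_right S.z P.w, ← e]; exact mul_mem hy (inv_mem P.hw))
  dne := fun h => by
    have hy := S.nx_mem P.hw
    rcases P.mk_eq.mp h with (e : S.nx P.w = S.z) | (e : S.nx P.w = S.z * P.x)
    · exact S.zW (e ▸ hy)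
    · rcases P.hx with e' | e' <;> rw [e'] at e
      · exact S.zW (by rw [← mul_inv_cancel_right S.z P.w, ← e]; exact mul_mem hy (inv_mem P.hw))
      · rw [← mul_assoc, S.zz, one_mul] at e; exact S.nx_ne P.hw P.w1 e
  J := P.Jb
  zJ := P.mem_Jb.mpr S.zJ
  dJ := P.mem_Jb.mpr (S.WJ (S.nx_mem P.hw))
  Jz := by rintro _ ⟨j, hj, rfl⟩; exact P.comm_mk (S.Jz _ hj)
  Jd := by
    rintro _ ⟨j, hj, rfl⟩
    exact (show Commute j P.yL from Subtype.ext (S.Wc _ (S.nx_mem P.hw) _ hj).eq.symm).map (QuotientGroup.mk' _)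
  conjJ := by
    rintro h hh _ ⟨j, hj, rfl⟩
    obtain ⟨g, rfl⟩ := QuotientGroup.mk_surjective h
    show QuotientGroup.mk g * QuotientGroup.mk j * (QuotientGroup.mk g)⁻¹ ∈ P.Jb
    rw [← QuotientGroup.mk_inv, ← QuotientGroup.mk_mul, ← QuotientGroup.mk_mul, P.mem_Jb]
    exact S.conjJ _ (P.lift_comm hh) _ hj
  card := P.card_Jb
  centre := by
    rintro _ ⟨m, hm, rfl⟩ hc
    have hcm : ∀ j ∈ S.J, Commute (m : G) j := fun j hj =>
      P.comm_lift (b := ⟨j, P.J_L hj⟩) hm hj (hc _ (P.mem_Jb.mpr hj : (QuotientGroup.mk ⟨j, P.J_L hj⟩ : P.Q) ∈ P.Jb))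
    have hy := S.nx_mem P.hw
    have key : ∀ (n : ↥P.L), (n : G) ∈ S.W →
        (QuotientGroup.mk n : P.Q) = 1 ∨ (QuotientGroup.mk n : P.Q) = QuotientGroup.mk P.zL ∨
        (QuotientGroup.mk n : P.Q) = QuotientGroup.mk P.yL ∨
        (QuotientGroup.mk n : P.Q) = QuotientGroup.mk P.yL * QuotientGroup.mk P.zL := by
      intro n hn
      have hwy : P.w * S.nx P.w = S.nx P.w * P.w := (S.W_comm P.hw hy).eq
      rcases S.W_eq P.hw P.w1 hn with e | e | e | e
      · exact Or.inl (P.mk_one.mpr (Or.inl e))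
      · rcases P.hx with e' | e'
        · exact Or.inl (P.mk_one.mpr (Or.inr (e.trans e'.symm)))
        · refine Or.inr (Or.inl (P.mk_eq.mpr (Or.inr ?_)))
          show (n : G) = S.z * P.x
          rw [e', ← mul_assoc, S.zz, one_mul]; exact e
      · exact Or.inr (Or.inr (Or.inl (P.mk_eq.mpr (Or.inl e))))
      · rcases P.hx with e' | e'
        · refine Or.inr (Or.inr (Or.inl (P.mk_eq.mpr (Or.inr ?_))))
          show (n : G) = S.nx P.w * P.x
          rw [e', ← hwy]; exact e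
        · refine Or.inr (Or.inr (Or.inr ?_))
          rw [← QuotientGroup.mk_mul]
          refine P.mk_eq.mpr (Or.inr ?_)
          show (n : G) = S.nx P.w * S.z * P.x
          rw [e', mul_assoc, ← mul_assoc S.z S.z, S.zz, one_mul, ← hwy]; exact e
    rcases S.centre _ hm hcm with e | e
    · exact key m e
    · have em : (QuotientGroup.mk m : P.Q) = QuotientGroup.mk (m * P.zL) * QuotientGroup.mk P.zL := by
        rw [← QuotientGroup.mk_mul]
        refine P.mk_eq.mpr (Or.inl ?_)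
        show (m : G) = (m : G) * S.z * S.z
        rw [mul_assoc, S.zz, mul_one]
      show (QuotientGroup.mk m : P.Q) = 1 ∨ (QuotientGroup.mk m : P.Q) = QuotientGroup.mk P.zL ∨
        (QuotientGroup.mk m : P.Q) = QuotientGroup.mk P.yL ∨
        (QuotientGroup.mk m : P.Q) = QuotientGroup.mk P.yL * QuotientGroup.mk P.zL
      have zz' : (QuotientGroup.mk P.zL : P.Q) * QuotientGroup.mk P.zL = 1 := P.mk_one.mpr (Or.inl S.zz)
      rw [em]
      rcases key (m * P.zL) e with e | e | e | e <;> rw [e]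
      · exact Or.inr (Or.inl (one_mul _))
      · exact Or.inl zz'
      · exact Or.inr (Or.inr (Or.inr rfl))
      · exact Or.inr (Or.inr (Or.inl (by rw [mul_assoc, zz', mul_one])))
  comm2 := by
    rintro _ ⟨a, ha, rfl⟩ _ ⟨b, hb, rfl⟩
    rcases S.comm2 _ ha _ hb with e | e
    · exact Or.inl ((show Commute a b from Subtype.ext e.eq).map (QuotientGroup.mk' _))
    · right
      show (QuotientGroup.mk (a * b) : P.Q) = QuotientGroup.mk (P.zL * (b * a))
      exact congrArg _ (Subtype.ext e)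
  sq2 := by
    rintro _ ⟨j, hj, rfl⟩
    rcases S.sq2 _ hj with e | e
    · exact Or.inl (P.mk_one.mpr (Or.inl e) : (QuotientGroup.mk (j * j) : P.Q) = 1)
    · exact Or.inr (congrArg _ (Subtype.ext e) : (QuotientGroup.mk (j * j) : P.Q) = QuotientGroup.mk P.zL)
  selfcent := by
    intro h hh hc
    obtain ⟨g, rfl⟩ := QuotientGroup.mk_surjective h
    refine P.mem_Jb.mpr (P.ker_x (P.lift_comm hh) (P.Lx g g.2) fun j hj => ?_)
    have e : (QuotientGroup.mk (g * ⟨j, P.J_L hj⟩) : P.Q) = QuotientGroup.mk (⟨j, P.J_L hj⟩ * g) :=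
      (hc _ (P.mem_Jb.mpr hj : (QuotientGroup.mk ⟨j, P.J_L hj⟩ : P.Q) ∈ P.Jb)).eq
    rcases P.mk_eq.mp e with e | e
    · have e' : (g : G) * j = j * g := e
      left; rw [e', mul_inv_cancel_right]
    · have e' : (g : G) * j = j * g * P.x := e
      right
      rw [e', mul_assoc j, (P.Lx g g.2).eq, ← mul_assoc, mul_inv_cancel_right]
  π := P.toX
  hπ := P.toX_surj
  hk := P.toX_ker
  N := S.N
  hN := S.hN
  Nsimple := S.Nsimple
  cardN := S.cardN
  hcent := S.hcent

end Pt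

end Setup

end CfsgLib.FiThreeType
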