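/-
Consequences of the quotient configurations: nonabelian subgroups, fusion in the centre, fixed subgroups.
-/
import Cfsg.Agent.Lib.FiThreeType.Quot
import Cfsg.Agent.Lib.FiTwoType.Index

set_option autoImplicit false
set_option maxHeartbeats 800000
set_option linter.unusedVariables false
set_option linter.unusedSectionVars false
set_option linter.style.haveILetI false

namespace CfsgLib.FiThreeType

namespace Setup

variable {G : Type*} [Group G] [Finite G] {X : Type*} [Group X] (S : Setup G X)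

/-- An element of odd order commuting with an involution and with its fixed points in the core centralises
the core. -/
theorem odd_fix {k b : G} (hk : Commute k S.z) (hb : Commute b S.z) (hb2 : b * b = 1) (hkb : Commute k b)
    (hodd : Odd (orderOf k)) (hfix : ∀ j ∈ S.J, Commute j b → Commute k j) : ∀ j ∈ S.J, Commute k j := by
  by_contra hno
  push Not at hno
  obtain ⟨j1, hj1, hj1k⟩ := hno
  have hbi : b⁻¹ = b := inv_eq_of_mul_eq_one_right hb2
  have kz := hfix S.z S.zJ hb.symm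
  -- the fixed points, an invariant subgroup with elementary quotient
  let Sfix := {j | j ∈ S.J ∧ Commute k j}
  have sq : ∀ j ∈ S.J, Commute k (j * j) := fun j hj => by
    rcases S.sq2 j hj with e | e <;> rw [e]
    exacts [Commute.one_right k, kz]
  have key : ∀ j ∈ S.J, (b * j * b⁻¹ * j⁻¹) ∈ S.J ∧ Commute k (b * j * b⁻¹ * j⁻¹) → Commute k j := by
    intro j hj ⟨sJ, sk⟩
    set s := b * j * b⁻¹ * j⁻¹ with hs
    set c := j⁻¹ * (k * j * k⁻¹) with hc
    have hcJ : c ∈ S.J := mul_mem (inv_mem hj) (S.conjJ k hk j hj)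
    have hkj : k * j * k⁻¹ = j * c := by rw [hc]; group
    have ebj : b * j * b⁻¹ = s * j := by rw [hs]; group
    have e1 : b * (j * c) * b⁻¹ = s * (j * c) := by
      calc b * (j * c) * b⁻¹ = b * (k * j * k⁻¹) * b⁻¹ := by rw [hkj]
        _ = k * (b * j * b⁻¹) * k⁻¹ := by
          rw [show k * (b * j * b⁻¹) * k⁻¹ = (k * b) * j * (k * b)⁻¹ by group, hkb.eq]; group
        _ = (k * s) * j * k⁻¹ := by rw [ebj]; group
        _ = s * (k * j * k⁻¹) := by rw [sk.eq]; group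
        _ = s * (j * c) := by rw [hkj]
    have hbc : Commute c b := by
      refine (mul_inv_eq_iff_eq_mul.mp ?_).symm
      calc b * c * b⁻¹ = (b * j * b⁻¹)⁻¹ * (b * (j * c) * b⁻¹) := by group
        _ = c := by rw [e1, ebj]; group
    have hkc := hfix c hcJ hbc
    have hpow : ∀ i : ℕ, k ^ i * j * (k ^ i)⁻¹ = j * c ^ i := fun i => by
      induction i with
      | zero => simp
      | succ i ih =>
        calc k ^ (i + 1) * j * (k ^ (i + 1))⁻¹ = k * (k ^ i * j * (k ^ i)⁻¹) * k⁻¹ := by rw [pow_succ']; group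
          _ = k * j * k⁻¹ * (k * c ^ i * k⁻¹) := by rw [ih]; group
          _ = j * c * c ^ i := by rw [hkj, (hkc.pow_right i).eq, mul_inv_cancel_right]
          _ = j * c ^ (i + 1) := by rw [pow_succ']; group
    have h2 := hpow (orderOf k)
    rw [pow_orderOf_eq_one, one_mul, inv_one, mul_one, left_eq_mul] at h2
    have hc2 : c ^ 4 = 1 := by
      rcases S.sq2 c hcJ with e | e <;> rw [show c ^ 4 = (c * c) * (c * c) by simp [pow_succ, mul_assoc], e]
      exacts [one_mul 1, S.zz]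
    obtain ⟨m, hm⟩ := hodd
    have hc1 : c = 1 := by
      have h3 : orderOf c ∣ 4 := orderOf_dvd_of_pow_eq_one hc2
      have h4 : orderOf c ∣ orderOf k := orderOf_dvd_of_pow_eq_one h2
      have h5 : orderOf c ∣ 1 := by
        have := Nat.dvd_gcd h3 h4
        rwa [show Nat.gcd 4 (orderOf k) = 1 from Nat.Coprime.pow_left 2
          ((Nat.coprime_two_left).mpr ⟨m, hm⟩)] at this
      exact orderOf_eq_one_iff.mp (Nat.dvd_one.mp h5)
    rw [hc1, mul_one, mul_inv_eq_iff_eq_mul] at hkj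
    exact hkj
  have hb1 : b * j1 * b⁻¹ ∈ S.J := S.conjJ b hb j1 hj1
  set t := j1 * (b * j1 * b⁻¹) with ht
  have hbbj : b * (b * j1 * b⁻¹) * b⁻¹ = j1 := by
    rw [show b * (b * j1 * b⁻¹) * b⁻¹ = (b * b) * j1 * (b * b)⁻¹ by group, hb2, one_mul, inv_one, mul_one]
  by_cases htk : Commute k t
  · -- the first element is fixed modulo the fixed points
    refine hj1k (key j1 hj1 ⟨mul_mem hb1 (inv_mem hj1), ?_⟩)
    have e : b * j1 * b⁻¹ * j1⁻¹ = (j1⁻¹ * t * j1) * (j1 * j1)⁻¹ := by rw [ht]; group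
    rw [e]
    refine Commute.mul_right ?_ (sq j1 hj1).inv_right
    rcases S.comm2 _ (inv_mem hj1) t (mul_mem hj1 hb1) with c | c
    · rw [c.eq, inv_mul_cancel_right]; exact htk
    · rw [c, show S.z * (t * j1⁻¹) * j1 = S.z * t by group]; exact kz.mul_right htk
  · refine htk (key t (mul_mem hj1 hb1) ⟨mul_mem (S.conjJ b hb _ (mul_mem hj1 hb1)) (inv_mem (mul_mem hj1 hb1)), ?_⟩)
    rw [show b * t * b⁻¹ = b * j1 * b⁻¹ * (b * (b * j1 * b⁻¹) * b⁻¹) by rw [ht]; group, hbbj, ht]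
    rcases S.comm2 _ hb1 j1 hj1 with c | c
    · rw [c.eq, mul_inv_cancel]; exact Commute.one_right k
    · rw [c, mul_inv_cancel_right]; exact kz

/-- The stabiliser. -/
def Hw (w : G) : Subgroup G := Subgroup.centralizer ({S.z} : Set G) ⊓ Subgroup.centralizer ({w} : Set G)

theorem mem_Hw {h w : G} : h ∈ S.Hw w ↔ Commute h S.z ∧ Commute h w :=
  and_congr S.mem_C Subgroup.mem_centralizer_singleton_iff

/-- The point of the centraliser itself. -/
def loc (w : G) (hw : w ∈ S.W) (w1 : w ≠ 1) : S.Pt where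
  x := w
  w := w
  hw := hw
  w1 := w1
  hx := Or.inl rfl
  L := S.Hw w
  Lx := fun g hg => (S.mem_Hw.mp hg).2
  HL := fun h hz hwc => S.mem_Hw.mpr ⟨hz, hwc⟩
  lift := fun g hg e => w1 (by
    rw [(S.mem_Hw.mp hg).1.eq, mul_inv_cancel_right] at e
    exact left_eq_mul.mp e)

/-- The image of a subgroup of the core in a quotient keeps half of its order. -/
theorem nonab {A : Subgroup G} (hA : A ≤ S.J) (hc : 512 ≤ Nat.card A) :
    ∃ u ∈ A, ∃ v ∈ A, u * v = S.z * (v * u) := by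
  classical
  haveI : Nontrivial ↥S.W := by
    haveI : Finite ↥S.W := Nat.finite_of_card_ne_zero (by rw [S.cardW]; norm_num)
    rw [← Finite.one_lt_card_iff_nontrivial, S.cardW]; norm_num
  obtain ⟨⟨w, hw⟩, w1'⟩ := exists_ne (1 : ↥S.W)
  let P := S.loc w hw fun e => w1' (Subtype.ext e)
  let f : ↥A →* P.Q := (QuotientGroup.mk' _).comp (Subgroup.inclusion (hA.trans P.J_L))
  have hr : f.range ≤ P.Jb := by
    rintro _ ⟨a, rfl⟩; exact P.mem_Jb.mpr (hA a.2)
  have hk : Nat.card f.ker ≤ 2 := by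
    have h : ∀ p : f.ker, ((p : ↥A) : G) ∈ ({1, w} : Finset G) := fun p => by
      have := P.mk_one.mp p.2
      simp only [Finset.mem_insert, Finset.mem_singleton]
      exact this
    refine le_trans (Nat.card_le_card_of_injective (fun p => (⟨_, h p⟩ : ({1, w} : Finset G))) fun a b e =>
      Subtype.ext (Subtype.ext (congrArg (fun w' : ({1, w} : Finset G) => w'.1) e))) ?_
    rw [Nat.card_eq_finsetCard]; exact Finset.card_le_two
  have h1 := f.ker.index_mul_card
  rw [Subgroup.index_ker] at h1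
  have h2 : 256 ≤ Nat.card f.range := by
    by_contra h
    have : Nat.card f.range * Nat.card f.ker ≤ 255 * 2 := Nat.mul_le_mul (by omega) hk
    omega
  obtain ⟨u, ⟨a, rfl⟩, v, ⟨b, rfl⟩, huv⟩ := P.base.quarter_nonab f.range hr h2
  refine ⟨a, a.2, b, b.2, (S.comm2 _ (hA a.2) _ (hA b.2)).resolve_left fun h => huv ?_⟩
  exact (show Commute a b from Subtype.ext h.eq).map f

theorem card_Hw {w : G} (hw : w ∈ S.W) (w1 : w ≠ 1) : Nat.card ↥(S.Hw w) = 2048 * 51840 := by
  let f : ↥(S.Hw w) →* X := S.π.comp (Subgroup.inclusion inf_le_left)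
  have hs : Function.Surjective f := fun v => by
    obtain ⟨h, hh⟩ := (S.loc w hw w1).toX_surj v
    refine ⟨⟨(((h : (S.loc w hw w1).Q).out : ↥(S.Hw w)) : G), ((h : (S.loc w hw w1).Q).out : ↥(S.Hw w)).2⟩, ?_⟩
    exact hh
  have hk : f.ker = S.J.subgroupOf (S.Hw w) := by
    ext h
    rw [MonoidHom.mem_ker, Subgroup.mem_subgroupOf]
    refine ⟨fun e => ?_, fun e => (S.hk _).mpr (Or.inl e)⟩
    obtain ⟨hz, hwc⟩ := S.mem_Hw.mp h.2
    rcases (S.hk _).mp e with e | e | e
    · exact e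
    all_goals exfalso; refine S.nx_ne hw w1 ?_
    · have h2 : (h : G) * S.c * w * ((h : G) * S.c)⁻¹ = w := S.J_fix e hw
      rw [show (h : G) * S.c * w * ((h : G) * S.c)⁻¹ = h * S.nx w * (h : G)⁻¹ by simp only [nx]; group] at h2
      calc S.nx w = (h : G)⁻¹ * (h * S.nx w * (h : G)⁻¹) * h := by group
        _ = w := by rw [h2, mul_assoc, ← hwc.eq, inv_mul_cancel_left]
    · have h2 : (h : G) * S.c * S.c * w * ((h : G) * S.c * S.c)⁻¹ = w := S.J_fix e hw
      rw [show (h : G) * S.c * S.c * w * ((h : G) * S.c * S.c)⁻¹ = h * S.nx (S.nx w) * (h : G)⁻¹ by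
        simp only [nx]; group] at h2
      have e2 : S.nx (S.nx w) = w := by
        calc S.nx (S.nx w) = (h : G)⁻¹ * (h * S.nx (S.nx w) * (h : G)⁻¹) * h := by group
          _ = w := by rw [h2, mul_assoc, ← hwc.eq, inv_mul_cancel_left]
      rw [S.nx_nx hw] at e2
      exact absurd (mul_eq_left.mp e2) (ne_one_conj w1)
  have h := f.ker.index_mul_card
  haveI : Finite X := Finite.of_surjective S.π S.hπ
  rw [Subgroup.index_ker, MonoidHom.range_eq_top.mpr hs, Subgroup.card_top, ← S.N.index_mul_card, S.hN, S.cardN, hk,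
    Nat.card_congr (Subgroup.subgroupOfEquivOfLe (show S.J ≤ S.Hw w from fun j hj =>
      S.mem_Hw.mpr ⟨S.Jz j hj, (S.Wc w hw j hj).symm⟩)).toEquiv, S.card] at h
  omega

theorem card_C_le {w : G} (hw : w ∈ S.W) (w1 : w ≠ 1) :
    Nat.card ↥(Subgroup.centralizer ({S.z} : Set G)) ≤ 3 * Nat.card ↥(S.Hw w) := by
  classical
  choose ε hε hf using fun h : ↥(Subgroup.centralizer ({S.z} : Set G)) => S.exists_stab (S.mem_C.mp h.2) hw w1
  have εz : ∀ h, Commute (ε h) S.z := fun h => by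
    rcases hε h with e | e | e <;> rw [e]
    exacts [Commute.one_left _, S.cz, S.cz.mul_left S.cz]
  let T : Finset G := {1, S.c, S.c * S.c}
  have hm : ∀ h, ε h ∈ T := fun h => by simpa [T] using hε h
  refine le_trans (Nat.card_le_card_of_injective (fun h => ((⟨ε h, hm h⟩ : T),
    (⟨ε h * h, S.mem_Hw.mpr ⟨(εz h).mul_left (S.mem_C.mp h.2), hf h⟩⟩ : ↥(S.Hw w)))) fun a b e => ?_) ?_
  · have e1 := congrArg (fun p : T × ↥(S.Hw w) => (p.1 : G)) e
    have e2 := congrArg (fun p : T × ↥(S.Hw w) => (p.2 : G)) e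
    simp only at e1 e2
    rw [e1] at e2
    exact Subtype.ext (mul_left_cancel e2)
  · rw [Nat.card_prod, Nat.card_eq_finsetCard]
    exact Nat.mul_le_mul_right _ Finset.card_le_three

/-- The involution is not conjugate to another of the centre of the core. -/
theorem not_conj {g w ζ : G} (hw : w ∈ S.W) (w1 : w ≠ 1) (hζ : ζ = w ∨ ζ = S.z * w) : g * S.z * g⁻¹ ≠ ζ := by
  intro e
  classical
  haveI : Fact (Nat.Prime 2) := ⟨Nat.prime_two⟩
  let H := Subgroup.centralizer ({S.z} : Set G)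
  haveI hJn : (S.J.subgroupOf H).Normal := ⟨fun j hj h => S.conjJ h (S.mem_C.mp h.2) j hj⟩
  have hcomm : ∀ h : ↥(S.Hw w), Commute (g⁻¹ * h * g) S.z := fun h => by
    obtain ⟨hz, hwc⟩ := S.mem_Hw.mp h.2
    have h1 : Commute (h : G) ζ := by
      rcases hζ with rfl | rfl
      exacts [hwc, hz.mul_right hwc]
    rw [← e] at h1
    have := h1.map (MulAut.conj g⁻¹).toMonoidHom
    simpa [mul_assoc] using this
  let φ : ↥(S.Hw w) →* ↥H := MonoidHom.mk' (fun h => ⟨g⁻¹ * h * g, S.mem_C.mpr (hcomm h)⟩) fun a b =>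
    Subtype.ext (by show g⁻¹ * ((a : G) * b) * g = _ * _; group)
  let ψ := (QuotientGroup.mk' (S.J.subgroupOf H)).comp φ
  set Q := ψ.ker.map (S.Hw w).subtype with hQ
  have memQ : ∀ p ∈ Q, p ∈ S.Hw w ∧ g⁻¹ * p * g ∈ S.J := by
    rintro _ ⟨p, hp, rfl⟩
    exact ⟨p.2, (QuotientGroup.eq_one_iff (φ p)).mp hp⟩
  have hQJ : Q ≤ S.J := by
    refine S.two_le hw w1 ?_ (fun p hp => S.mem_Hw.mp (memQ p hp).1) fun h hz hwc p hp => ?_
    · refine S.isPGroup_J.of_injective
        (MonoidHom.mk' (fun p : ↥Q => (⟨g⁻¹ * p * g, (memQ p p.2).2⟩ : ↥S.J)) fun a b => Subtype.ext (by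
          show g⁻¹ * ((a : G) * b) * g = _ * _; group)) fun a b h => ?_
      have := congrArg (fun q : ↥S.J => g * q.1 * g⁻¹) h
      exact Subtype.ext (by simpa [mul_assoc] using this)
    · obtain ⟨p, hp, rfl⟩ := hp
      exact ⟨⟨h, S.mem_Hw.mpr ⟨hz, hwc⟩⟩ * p * ⟨h, S.mem_Hw.mpr ⟨hz, hwc⟩⟩⁻¹,
        (inferInstance : ψ.ker.Normal).conj_mem p hp _, rfl⟩
  have hQc : 512 ≤ Nat.card Q := by
    have hw' := S.card_Hw hw w1
    have h1 := ψ.ker.index_mul_card
    rw [Subgroup.index_ker, hw'] at h1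
    have h2 : Nat.card ψ.range * 2048 ≤ Nat.card ↥H := by
      have h := (S.J.subgroupOf H).index_mul_card
      rw [Nat.card_congr (Subgroup.subgroupOfEquivOfLe S.J_le_C).toEquiv, S.card] at h
      rw [← h]
      exact Nat.mul_le_mul_right _ (Subgroup.card_le_card_group _)
    have h3 : Nat.card ↥H ≤ 3 * (2048 * 51840) := hw' ▸ S.card_C_le hw w1
    rw [hQ, ← Nat.card_congr (ψ.ker.equivMapOfInjective _ (S.Hw w).subtype_injective).toEquiv]
    by_contra h512
    have h4 : Nat.card ψ.range ≤ 3 * 51840 := by omega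
    have : Nat.card ψ.range * Nat.card ψ.ker ≤ 3 * 51840 * 511 := Nat.mul_le_mul h4 (by omega)
    omega
  obtain ⟨u, hu, v, hv, euv⟩ := S.nonab hQJ hQc
  rcases S.comm2 _ (memQ u hu).2 _ (memQ v hv).2 with c | c
  · have c' := c.map (MulAut.conj g).toMonoidHom
    simp [mul_assoc] at c'
    exact S.z1 (mul_eq_right.mp (euv.symm.trans c'.eq))
  · have c' : u * v = g * S.z * g⁻¹ * (v * u) := by
      calc u * v = g * (g⁻¹ * u * g * (g⁻¹ * v * g)) * g⁻¹ := by group
        _ = _ := by rw [c]; group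
    rw [e] at c'
    have hz : S.z = ζ := mul_right_cancel (euv.symm.trans c')
    rcases hζ with rfl | rfl
    · exact S.zW (hz ▸ hw)
    · exact w1 (left_eq_mul.mp hz)

/-- A conjugate of the involution centralising the core is the involution. -/
theorem central_eq {g : G} (hc : ∀ j ∈ S.J, Commute (g * S.z * g⁻¹) j) : g * S.z * g⁻¹ = S.z := by
  have hJ := S.selfcent _ (hc _ S.zJ) hc
  rcases S.centre _ hJ hc with e | e
  · exact absurd rfl (S.not_conj e (fun h => S.z1 (conj_eq_one_iff.mp h)) (Or.inl rfl))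
  · by_cases h : g * S.z * g⁻¹ = S.z
    · exact h
    · refine absurd ?_ (S.not_conj (g := g) e (fun h' => h ((mul_eq_one_iff_eq_inv.mp h').trans S.z_inv)) (Or.inr rfl))
      rw [(hc _ S.zJ).eq, ← mul_assoc, S.zz, one_mul]

/-- An involution outside the core fixes less than half of it. -/
theorem half_not {v : G} (hvC : Commute v S.z) (hv2 : v * v = 1) (hvJ : v ∉ S.J) :
    ((Subgroup.centralizer ({v} : Set G)).subgroupOf S.J).index ≠ 1 ∧
      ((Subgroup.centralizer ({v} : Set G)).subgroupOf S.J).index ≠ 2 := by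
  classical
  obtain ⟨w, hw, w1, hf⟩ := S.exists_fix hvC hv2
  let P := S.loc w hw w1
  let vL : ↥P.L := ⟨v, S.mem_Hw.mpr ⟨hvC, hf⟩⟩
  obtain ⟨n1, n2⟩ := P.base.half_not (w := QuotientGroup.mk vL) (P.comm_mk hvC)
    (P.mk_one.mpr (Or.inl hv2) : (QuotientGroup.mk (vL * vL) : P.Q) = 1) fun h => hvJ (P.mem_Jb.mp h)
  set M := (Subgroup.centralizer ({v} : Set G)).subgroupOf S.J with hM
  let f : ↥S.J →* ↥P.Jb := MonoidHom.mk' (fun j => ⟨QuotientGroup.mk ⟨j, P.J_L j.2⟩, P.mem_Jb.mpr j.2⟩)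
    fun a b => Subtype.ext rfl
  have fs : Function.Surjective f := by
    rintro ⟨_, j, hj, rfl⟩
    exact ⟨⟨j, hj⟩, rfl⟩
  set M' := (Subgroup.centralizer ({(QuotientGroup.mk vL : P.Q)} : Set P.Q)).subgroupOf P.Jb with hM'
  have hle : M ≤ M'.comap f := fun j hj => by
    refine Subgroup.mem_comap.mpr (Subgroup.mem_subgroupOf.mpr (Subgroup.mem_centralizer_singleton_iff.mpr ?_))
    have h1 : Commute (⟨j, P.J_L j.2⟩ : ↥P.L) vL :=
      Subtype.ext (Subgroup.mem_centralizer_singleton_iff.mp (Subgroup.mem_subgroupOf.mp hj))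
    exact (h1.map (QuotientGroup.mk' _)).eq
  have hd := Subgroup.index_dvd_of_le hle
  rw [Subgroup.index_comap_of_surjective _ fs] at hd
  refine ⟨fun e => ?_, fun e => ?_⟩ <;> rw [e] at hd
  · exact n1 (Nat.dvd_one.mp hd)
  · exact ((Nat.dvd_prime Nat.prime_two).mp hd).elim n1 n2

theorem four (A : Subgroup ↥S.J) (hA : A.index = 4) : ∃ u ∈ A, ∃ v ∈ A, ¬ u * v = v * u := by
  have hc : Nat.card (A.map S.J.subtype) = 512 := by
    rw [← Nat.card_congr (A.equivMapOfInjective _ S.J.subtype_injective).toEquiv]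
    have h := A.index_mul_card
    rw [hA, S.card] at h
    omega
  obtain ⟨_, ⟨u, hu, rfl⟩, _, ⟨v, hv, rfl⟩, h⟩ := S.nonab (Subgroup.map_subtype_le A) hc.ge
  refine ⟨u, hu, v, hv, fun e => S.z1 ?_⟩
  exact (mul_eq_right.mp ((h.symm).trans (congrArg Subtype.val e)))

/-- An element of the core commuting with all fixed points of another one. -/
theorem cc {x m : G} (hx : x ∈ S.J) (hm : m ∈ S.J) (hxc : ∃ j ∈ S.J, ¬ Commute j x)
    (h : ∀ j ∈ S.J, Commute j x → Commute m j) :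
    (m ∈ S.W ∨ m * S.z ∈ S.W) ∨ (m * x ∈ S.W ∨ m * x * S.z ∈ S.W) := by
  classical
  haveI : Nontrivial ↥S.W := by
    haveI : Finite ↥S.W := Nat.finite_of_card_ne_zero (by rw [S.cardW]; norm_num)
    rw [← Finite.one_lt_card_iff_nontrivial, S.cardW]; norm_num
  obtain ⟨⟨w, hw⟩, w1'⟩ := exists_ne (1 : ↥S.W)
  let P := S.loc w hw fun e => w1' (Subtype.ext e)
  let qJ : (j : G) → j ∈ S.J → P.Q := fun j hj => QuotientGroup.mk ⟨j, P.J_L hj⟩
  have hxZ : ¬ P.base.Z (qJ x hx) := fun hZ => by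
    obtain ⟨j, hj, hn⟩ := hxc
    exact hn (P.comm_lift (a := ⟨j, P.J_L hj⟩) (b := ⟨x, P.J_L hx⟩) hj hx
      (P.base.Z_comm hZ (P.mem_Jb.mpr hj : qJ j hj ∈ P.Jb)).symm)
  have cen : ∀ (n : G) (hn : n ∈ S.J), P.base.Z (qJ n hn) → n ∈ S.W ∨ n * S.z ∈ S.W := fun n hn hZ =>
    S.centre n hn fun j hj => P.comm_lift (a := ⟨n, P.J_L hn⟩) (b := ⟨j, P.J_L hj⟩) hn hj
      (P.base.Z_comm hZ (P.mem_Jb.mpr hj : qJ j hj ∈ P.Jb))
  rcases P.base.cc (P.mem_Jb.mpr hx : qJ x hx ∈ P.Jb) hxZ (P.mem_Jb.mpr hm : qJ m hm ∈ P.Jb) (fun j hj hjx => by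
      obtain ⟨j', hj', rfl⟩ := hj
      exact (show Commute (⟨m, P.J_L hm⟩ : ↥P.L) j' from Subtype.ext (h _ hj' (P.comm_lift hj' hx hjx)).eq).map
        (QuotientGroup.mk' _)) with e | e
  · exact Or.inl (cen m hm e)
  · exact Or.inr (cen (m * x) (mul_mem hm hx) e)

end Setup

end CfsgLib.FiThreeType
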