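/-
The centralisers of the involutions of the centre of the core: the Fischer group of degree twenty-three or isolation.
-/
import Cfsg.Agent.Lib.FiThreeType.Local
import Cfsg.Agent.Lib.FiTwoType.Isolated
import Cfsg.Agent.Lib.FiTwoType.CaseA

set_option autoImplicit false
set_option maxRecDepth 100000
set_option linter.unusedVariables false
set_option linter.unusedSectionVars false
set_option linter.style.haveILetI false

namespace CfsgLib.FiThreeType

namespace Setup

variable {G : Type*} [Group G] [Finite G] {X : Type*} [Group X] (S : Setup G X)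
variable {F : Type*} [Field F] [Fintype F]

/-- The involution is isolated in the centraliser of another one. -/
def IsoAt (x : G) : Prop :=
  ∀ g : G, Commute g x → Commute (g * S.z * g⁻¹) S.z → g * S.z * g⁻¹ = S.z

/-- The point with full centraliser. -/
def glob (w : G) (hw : w ∈ S.W) (w1 : w ≠ 1) (x : G) (hx : x = w ∨ x = S.z * w) : S.Pt where
  x := x
  w := w
  hw := hw
  w1 := w1
  hx := hx
  L := Subgroup.centralizer ({x} : Set G)
  Lx := fun g hg => Subgroup.mem_centralizer_singleton_iff.mp hg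
  HL := fun h hz hwc => by
    rcases hx with rfl | rfl
    exacts [Subgroup.mem_centralizer_singleton_iff.mpr hwc, Subgroup.mem_centralizer_singleton_iff.mpr (hz.mul_right hwc)]
  lift := fun g hg e => by
    rcases hx with rfl | rfl
    · exact S.not_conj hw w1 (Or.inr rfl) e
    · exact S.not_conj hw w1 (Or.inl rfl) (e.trans (by rw [← mul_assoc, S.zz, one_mul]))

variable {S} (P : S.Pt)

/-- Isolation in the quotient descends. -/
theorem Pt.isolated (hF : Fintype.card F = 3) (eN : Cfsg.PSp 2 F ≃* ↥S.N) (hI : P.base.Iso) (hI' : P.base.flip.Iso)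
    (g : G) (hg : g ∈ P.L) (hc : Commute (g * S.z * g⁻¹) S.z) : g * S.z * g⁻¹ = S.z := by
  have h := P.base.isolated hF eN hI hI' (QuotientGroup.mk ⟨g, hg⟩)
    (by exact P.comm_mk (g := (⟨g, hg⟩ : ↥P.L) * P.zL * (⟨g, hg⟩ : ↥P.L)⁻¹) hc)
  rcases P.mk_eq.mp (h : (QuotientGroup.mk (⟨g, hg⟩ * P.zL * ⟨g, hg⟩⁻¹) : P.Q) = QuotientGroup.mk P.zL) with e | e
  · exact e
  · exact absurd (show g * S.z * g⁻¹ = S.z * P.x from e) (P.lift g hg)

theorem Pt.caseA (hx : P.x = P.w) (h : P.Q) (hz : Commute h P.base.z) : Commute h P.base.d := by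
  obtain ⟨g, rfl⟩ := QuotientGroup.mk_surjective h
  have gz := P.lift_comm hz
  have gw := P.fix_w gz (P.Lx g g.2)
  show (QuotientGroup.mk (g * P.yL) : P.Q) = QuotientGroup.mk (P.yL * g)
  refine P.mk_eq.mpr ?_
  show (g : G) * S.nx P.w = S.nx P.w * g ∨ (g : G) * S.nx P.w = S.nx P.w * g * P.x
  by_cases hi : S.In g
  · exact Or.inl (S.In_fix hi P.hw P.w1 gw _ (S.nx_mem P.hw)).eq
  · right
    rw [mul_inv_eq_iff_eq_mul.mp (S.outer_move gz hi P.hw P.w1 gw), mul_assoc (S.nx P.w), (P.Lx g g.2).eq, ← mul_assoc,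
      hx, (S.W_comm P.hw (S.nx_mem P.hw)).eq]

theorem Pt.In_iff {g : ↥P.L} (gz : Commute (g : G) S.z) : P.base.In (QuotientGroup.mk g) ↔ S.In g := by
  constructor
  · rintro ⟨hq, e⟩
    exact ⟨S.mem_C.mpr gz, by rw [← P.toX_mk g gz hq]; exact e⟩
  · rintro ⟨_, e⟩
    exact ⟨P.mem_CQ gz, by
      exact (congrArg (· ∈ S.N) (P.toX_mk g gz _)).mpr e⟩

theorem Pt.caseB (hx : P.x = S.z * P.w) (h : P.Q) (hz : Commute h P.base.z) (hd : Commute h P.base.d) :
    P.base.In h := by
  obtain ⟨g, rfl⟩ := QuotientGroup.mk_surjective h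
  have gz := P.lift_comm hz
  have gw := P.fix_w gz (P.Lx g g.2)
  refine (P.In_iff gz).mpr ?_
  by_contra hi
  have e := mul_inv_eq_iff_eq_mul.mp (S.outer_move gz hi P.hw P.w1 gw)
  have hd' : (QuotientGroup.mk (g * P.yL) : P.Q) = QuotientGroup.mk (P.yL * g) := hd.eq
  rcases P.mk_eq.mp hd' with (c : (g : G) * S.nx P.w = S.nx P.w * g) | (c : (g : G) * S.nx P.w = S.nx P.w * g * P.x)
  · exact P.w1 (mul_eq_right.mp (mul_right_cancel (e.symm.trans c)))
  · refine S.z1 ?_
    have c' : P.w * S.nx P.w * (g : G) = P.x * S.nx P.w * g := by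
      rw [← e, c, mul_assoc, (P.Lx g g.2).eq, ← mul_assoc,
        show S.nx P.w * P.x = P.x * S.nx P.w by
          rw [hx]; exact ((S.Wz (S.nx_mem P.hw)).mul_right (S.W_comm P.hw (S.nx_mem P.hw)).symm).eq]
    rw [hx] at c'
    exact mul_eq_right.mp (mul_right_cancel (mul_right_cancel c')).symm

end Setup

end CfsgLib.FiThreeType
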