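/-
A conjugate commuting with the involution, granting isolation beside some involutions of the centre of the core:
centralisers of the pulled involutions.
-/
import Cfsg.Agent.Lib.FiThreeType.Point
import Cfsg.Agent.Lib.ZStar.Main

set_option autoImplicit false
set_option maxRecDepth 100000
set_option linter.unusedVariables false
set_option linter.unusedSectionVars false
set_option linter.style.haveILetI false

namespace CfsgLib.FiThreeType

namespace Setup

variable {G : Type*} [Group G] [Finite G] {X : Type*} [Group X] (S : Setup G X)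

/-- The conjugating element moves some involution of the four-group into it, up to the centraliser. -/
def Good (g : G) : Prop := ∃ w ∈ S.W, w ≠ 1 ∧ ∃ h, Commute h S.z ∧ Commute (g * h) w

/-- The normaliser of the four-group. -/
def M : Subgroup G := Subgroup.normalizer (S.W : Set G)

theorem mem_M {g : G} : g ∈ S.M ↔ ∀ v ∈ S.W, g * v * g⁻¹ ∈ S.W := by
  rw [M, Subgroup.mem_normalizer_iff_map_conj_eq]
  constructor
  · intro h v hv
    rw [← h]
    exact ⟨v, hv, rfl⟩
  · intro h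
    refine Subgroup.eq_of_le_of_card_ge ?_ (le_of_eq ?_)
    · rintro _ ⟨v, hv, rfl⟩; exact h v hv
    · exact Nat.card_congr (S.W.equivMapOfInjective _ (MulAut.conj g).injective).toEquiv

theorem C_le_M {h : G} (hh : Commute h S.z) : h ∈ S.M := S.mem_M.mpr fun v hv => S.conjW h hh v hv

/-- The powers of the element of order three are transitive on the involutions of the four-group. -/
theorem trans {u v : G} (hu : u ∈ S.W) (u1 : u ≠ 1) (hv : v ∈ S.W) (v1 : v ≠ 1) :
    ∃ h, Commute h S.z ∧ h * u * h⁻¹ = v := by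
  rcases S.W_eq hu u1 hv with e | e | e | e
  · exact absurd e v1
  · exact ⟨1, Commute.one_left _, by rw [one_mul, inv_one, mul_one]; exact e.symm⟩
  · exact ⟨S.c, S.cz, e.symm⟩
  · refine ⟨S.c * S.c, S.cz.mul_left S.cz, ?_⟩
    rw [show S.c * S.c * u * (S.c * S.c)⁻¹ = S.nx (S.nx u) by simp only [nx]; group, S.nx_nx hu]
    exact e.symm

theorem good_of_mem {g w : G} (hw : w ∈ S.W) (w1 : w ≠ 1) (hx : g⁻¹ * w * g ∈ S.W) : S.Good g := by
  have x1 : g⁻¹ * w * g ≠ 1 := fun e => w1 (by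
    calc w = g * (g⁻¹ * w * g) * g⁻¹ := by group
      _ = 1 := by rw [e]; group)
  obtain ⟨h, hh, e⟩ := S.trans hw w1 hx x1
  refine ⟨w, hw, w1, h, hh, mul_inv_eq_iff_eq_mul.mp ?_⟩
  calc g * h * w * (g * h)⁻¹ = g * (h * w * h⁻¹) * g⁻¹ := by group
    _ = w := by rw [e]; group

theorem good_trivial {g : G} (hg : g * S.z * g⁻¹ = S.z) : S.Good g := by
  classical
  haveI : Finite ↥S.W := Nat.finite_of_card_ne_zero (by rw [S.cardW]; norm_num)
  haveI : Nontrivial ↥S.W := by rw [← Finite.one_lt_card_iff_nontrivial, S.cardW]; norm_num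
  obtain ⟨⟨w, hw⟩, w1⟩ := exists_ne (1 : ↥S.W)
  refine ⟨w, hw, fun e => w1 (Subtype.ext e), g⁻¹, Commute.inv_left (mul_inv_eq_iff_eq_mul.mp hg), ?_⟩
  rw [mul_inv_cancel]; exact Commute.one_left _

/-- With all centralisers of involutions of the four-group isolating, a good conjugating element fixes. -/
theorem good_iso {g : G} (hy : Commute (g * S.z * g⁻¹) S.z) (hI : ∀ w ∈ S.W, w ≠ 1 → S.IsoAt w) (hg : S.Good g) :
    g * S.z * g⁻¹ = S.z := by
  obtain ⟨w, hw, w1, h, hh, hgw⟩ := hg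
  have e : g * h * S.z * (g * h)⁻¹ = g * S.z * g⁻¹ := by
    rw [show g * h * S.z * (g * h)⁻¹ = g * (h * S.z * h⁻¹) * g⁻¹ by group, hh.eq, mul_inv_cancel_right]
  rw [← e] at hy ⊢
  exact hI w hw w1 _ hgw hy

/-- With all centralisers of involutions of the four-group normalising it, a good element normalises it. -/
theorem good_norm {g : G} (hM : ∀ w ∈ S.W, w ≠ 1 → ∀ k, Commute k w → k ∈ S.M) (hg : S.Good g) : g ∈ S.M := by
  obtain ⟨w, hw, w1, h, hh, hgw⟩ := hg
  have := mul_mem (hM w hw w1 _ hgw) (inv_mem (S.C_le_M hh))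
  rwa [mul_inv_cancel_right] at this

variable {S}

theorem IsoAt.odd {a : G} (hI : S.IsoAt a) (haz : Commute S.z a) {k : G} (hk : Commute k a) :
    Odd (orderOf (k * S.z * k⁻¹ * S.z⁻¹)) ∧ ∀ q, Commute q a →
      Odd (orderOf (k * S.z * k⁻¹ * S.z⁻¹ * (q * (k * S.z * k⁻¹ * S.z⁻¹)⁻¹ * q⁻¹))) := by
  classical
  haveI : Fact (Nat.Prime 2) := ⟨Nat.prime_two⟩
  let L := Subgroup.centralizer ({a} : Set G)
  have memL : ∀ {q}, q ∈ L ↔ Commute q a := Subgroup.mem_centralizer_singleton_iff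
  let zL : ↥L := ⟨S.z, memL.mpr haz⟩
  have zord : orderOf zL = 2 := by rw [← Subgroup.orderOf_coe]; exact S.orderOf_z
  have hiso : Cfsg.IsIsolated zL := fun q hq =>
    Subtype.ext (hI q (memL.mp q.2) (congrArg Subtype.val hq.eq).symm)
  have hO := CfsgLib.ZStar.inZStar zord hiso ⟨k, memL.mpr hk⟩
  have hodd : ∀ y : ↥L, y ∈ Cfsg.oddCore ↥L → Odd (orderOf (y : G)) := fun y hy => by
    rw [Subgroup.orderOf_coe]
    exact Odd.of_dvd_nat CfsgLib.odd_card_oddCore (Subgroup.orderOf_dvd_natCard _ hy)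
  exact ⟨hodd _ hO, fun q hq => hodd _ (mul_mem hO
    ((inferInstance : (Cfsg.oddCore ↥L).Normal).conj_mem _ (inv_mem hO) ⟨q, memL.mpr hq⟩))⟩

variable (S)

theorem odd_J {j : G} (hj : j ∈ S.J) (h : Odd (orderOf j)) : j = 1 := by
  refine orderOf_eq_one_iff.mp (Nat.eq_one_of_dvd_coprimes (Nat.Coprime.pow_left 2 (Nat.coprime_two_left.mpr h))
    (orderOf_dvd_of_pow_eq_one (n := 2 ^ 2) ?_) dvd_rfl)
  rcases S.sq2 j hj with e | e <;> rw [show j ^ 2 ^ 2 = (j * j) * (j * j) by simp [pow_succ, mul_assoc], e]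
  exacts [one_mul 1, S.zz]

theorem pull {g a : G} (ha : Commute a (g * S.z * g⁻¹)) : Commute (g⁻¹ * a * g) S.z := by
  have := ha.map (MulAut.conj g⁻¹).toMonoidHom
  simpa [mul_assoc] using this

theorem pull_z {g : G} (hy : Commute (g * S.z * g⁻¹) S.z) : Commute (g⁻¹ * S.z * g) S.z := S.pull hy.symm

theorem push {g k : G} (hk : Commute k (g⁻¹ * S.z * g)) : Commute (g * k * g⁻¹) S.z := by
  have := hk.map (MulAut.conj g).toMonoidHom
  simpa [mul_assoc] using this

theorem push_y {g k : G} (hk : Commute k S.z) : Commute (g * k * g⁻¹) (g * S.z * g⁻¹) := by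
  have := hk.map (MulAut.conj g).toMonoidHom
  simpa [mul_assoc] using this

/-- The centraliser of a pulled involution isolating lies in that of the pulled involution. -/
theorem le {g a h : G} (hI : S.IsoAt a) (a2 : a * a = 1) (haz : Commute a S.z) (hy : Commute (g * S.z * g⁻¹) S.z)
    (hay : Commute a (g * S.z * g⁻¹)) (hh : Commute h S.z) (hp : Commute h (g⁻¹ * a * g)) :
    Commute h (g⁻¹ * S.z * g) := by
  classical
  have zz' := S.pull_z hy
  have pz := S.pull hay
  have zp : Commute (g⁻¹ * S.z * g) (g⁻¹ * a * g) := by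
    have := haz.symm.map (MulAut.conj g⁻¹).toMonoidHom
    simpa [mul_assoc] using this
  have p2 : g⁻¹ * a * g * (g⁻¹ * a * g) = 1 := by
    rw [show g⁻¹ * a * g * (g⁻¹ * a * g) = g⁻¹ * (a * a) * g by group, a2]; group
  have toA : ∀ {k}, Commute k (g⁻¹ * a * g) → Commute (g * k * g⁻¹) a := fun {k} hk => by
    have := hk.map (MulAut.conj g).toMonoidHom
    simpa [mul_assoc] using this
  obtain ⟨o1, o2⟩ := hI.odd haz.symm (toA hp)
  set w' := h * (g⁻¹ * S.z * g) * h⁻¹ * (g⁻¹ * S.z * g)⁻¹ with hw'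
  have gw : g * w' * g⁻¹ = g * h * g⁻¹ * S.z * (g * h * g⁻¹)⁻¹ * S.z⁻¹ := by rw [hw']; group
  have hw'z : Commute w' S.z := ((hh.mul_left zz').mul_left hh.inv_left).mul_left zz'.inv_left
  have hw'p : Commute w' (g⁻¹ * a * g) := ((hp.mul_left zp).mul_left hp.inv_left).mul_left zp.inv_left
  have hodd : Odd (orderOf w') := by
    rw [← (MulAut.conj g).orderOf_eq w', show MulAut.conj g w' = g * w' * g⁻¹ from rfl, gw]
    exact o1
  have hfix : ∀ j ∈ S.J, Commute j (g⁻¹ * a * g) → Commute w' j := by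
    intro j hj hjp
    set c := w' * j * w'⁻¹ * j⁻¹ with hc
    have cJ : c ∈ S.J := mul_mem (S.conjJ _ hw'z j hj) (inv_mem hj)
    have h5 : c = 1 := S.odd_J cJ (by
      rw [← (MulAut.conj g).orderOf_eq c, show MulAut.conj g c = g * c * g⁻¹ from rfl]
      have := o2 _ (toA hjp)
      rw [← gw] at this
      convert this using 2
      rw [hc]; group)
    rwa [hc, mul_inv_eq_one, mul_inv_eq_iff_eq_mul] at h5
  have hJ := S.selfcent w' hw'z (S.odd_fix hw'z pz p2 hw'p hodd hfix)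
  have h6 : w' = 1 := S.odd_J hJ hodd
  rwa [hw', mul_inv_eq_one, mul_inv_eq_iff_eq_mul] at h6

/-- The two kinds of involutions of the centre of the core are not exchanged. -/
theorem no_cross {g w v : G} (hI : ∀ w ∈ S.W, w ≠ 1 → S.IsoAt (S.z * w)) (hy : Commute (g * S.z * g⁻¹) S.z)
    (hw : w ∈ S.W) (hv : v ∈ S.W) (v1 : v ≠ 1) (e : g * (S.z * v) * g⁻¹ = w) : g * S.z * g⁻¹ = S.z := by
  refine S.central_eq fun j hj => ?_
  have hk : Commute (g⁻¹ * j * g) (S.z * v) := by
    have h1 : Commute j w := (S.Wc w hw j hj).symm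
    rw [← e] at h1
    have := h1.map (MulAut.conj g⁻¹).toMonoidHom
    simpa [mul_assoc] using this
  obtain ⟨o1, -⟩ := (hI v hv v1).odd ((Commute.refl S.z).mul_right (S.Wz hv).symm) hk
  have e1 : g * (g⁻¹ * j * g * S.z * (g⁻¹ * j * g)⁻¹ * S.z⁻¹) * g⁻¹ =
      j * (g * S.z * g⁻¹) * j⁻¹ * (g * S.z * g⁻¹)⁻¹ := by group
  have m : j * (g * S.z * g⁻¹) * j⁻¹ * (g * S.z * g⁻¹)⁻¹ ∈ S.J := by
    rw [show j * (g * S.z * g⁻¹) * j⁻¹ * (g * S.z * g⁻¹)⁻¹ =
      j * (g * S.z * g⁻¹ * j⁻¹ * (g * S.z * g⁻¹)⁻¹) by group]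
    exact mul_mem hj (S.conjJ _ hy _ (inv_mem hj))
  have h1 := S.odd_J m (by
    rw [← e1, show g * (g⁻¹ * j * g * S.z * (g⁻¹ * j * g)⁻¹ * S.z⁻¹) * g⁻¹ =
      MulAut.conj g (g⁻¹ * j * g * S.z * (g⁻¹ * j * g)⁻¹ * S.z⁻¹) from rfl, (MulAut.conj g).orderOf_eq]
    exact o1)
  exact (mul_inv_eq_iff_eq_mul.mp (mul_inv_eq_one.mp h1)).symm

/-- A two-subgroup of the centraliser fixes an involution of the four-group. -/
theorem two_fix {K : Subgroup G} (hK : IsPGroup 2 K) (hz : ∀ k ∈ K, Commute k S.z) :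
    ∃ w ∈ S.W, w ≠ 1 ∧ ∀ k ∈ K, Commute k w := by
  classical
  haveI : Fact (Nat.Prime 2) := ⟨Nat.prime_two⟩
  haveI : Finite ↥S.W := Nat.finite_of_card_ne_zero (by rw [S.cardW]; norm_num)
  letI : MulAction ↥K {v : ↥S.W // v ≠ 1} :=
    { smul := fun k v => ⟨⟨(k : G) * v.1 * (k : G)⁻¹, S.conjW _ (hz k k.2) _ v.1.2⟩, fun e =>
        ne_one_conj (fun e' => v.2 (Subtype.ext e')) (congrArg Subtype.val e)⟩
      one_smul := fun v => Subtype.ext (Subtype.ext (by show (1 : G) * v.1 * (1 : G)⁻¹ = v.1; simp))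
      mul_smul := fun a b v => Subtype.ext (Subtype.ext (by
        show ((a * b : ↥K) : G) * v.1 * ((a * b : ↥K) : G)⁻¹ = (a : G) * ((b : G) * v.1 * (b : G)⁻¹) * (a : G)⁻¹
        simp [mul_assoc])) }
  have hn : ¬ 2 ∣ Nat.card {v : ↥S.W // v ≠ 1} := by
    haveI : Fintype ↥S.W := Fintype.ofFinite _
    rw [Nat.card_eq_fintype_card, Fintype.card_subtype_compl, Fintype.card_subtype_eq, ← Nat.card_eq_fintype_card,
      S.cardW]
    norm_num
  obtain ⟨⟨⟨w, hw⟩, w1⟩, hf⟩ := hK.nonempty_fixed_point_of_prime_not_dvd_card _ hn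
  exact ⟨w, hw, fun e => w1 (Subtype.ext e), fun k hk => mul_inv_eq_iff_eq_mul.mp
    (congrArg (fun v : {v : ↥S.W // v ≠ 1} => ((v.1 : ↥S.W) : G)) (hf ⟨k, hk⟩))⟩

/-- An element of the core has centraliser of index at most two. -/
theorem index_two {v : G} (hv : v ∈ S.J) :
    ((Subgroup.centralizer ({v} : Set G)).subgroupOf S.J).index = 1 ∨
      ((Subgroup.centralizer ({v} : Set G)).subgroupOf S.J).index = 2 := by
  classical
  set M := (Subgroup.centralizer ({v} : Set G)).subgroupOf S.J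
  have memM : ∀ {k : ↥S.J}, k ∈ M ↔ Commute (k : G) v := fun {k} =>
    Subgroup.mem_subgroupOf.trans Subgroup.mem_centralizer_singleton_iff
  by_cases hall : ∀ j : ↥S.J, j ∈ M
  · exact Or.inl (Subgroup.index_eq_one.mpr (eq_top_iff.mpr fun j _ => hall j))
  push Not at hall
  obtain ⟨j0, hj0⟩ := hall
  refine Or.inr (Subgroup.index_eq_two_iff.mpr ⟨j0, fun b => ?_⟩)
  by_cases hb : b ∈ M
  · refine Or.inr ⟨hb, fun h => hj0 ?_⟩
    have := mul_mem (inv_mem hb) h
    rwa [inv_mul_cancel_left] at this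
  · refine Or.inl ⟨memM.mpr ?_, hb⟩
    have e1 := (S.comm2 _ b.2 v hv).resolve_left fun h => hb (memM.mpr h)
    have e2 := (S.comm2 _ j0.2 v hv).resolve_left fun h => hj0 (memM.mpr h)
    show (b : G) * j0 * v = v * ((b : G) * j0)
    calc (b : G) * j0 * v = (b : G) * ((j0 : G) * v) := mul_assoc _ _ _
      _ = (b : G) * S.z * (v * j0) := by rw [e2, mul_assoc]
      _ = S.z * ((b : G) * v) * j0 := by rw [(S.Jz _ b.2).eq]; group
      _ = S.z * S.z * (v * b * j0) := by rw [e1]; group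
      _ = v * ((b : G) * j0) := by rw [S.zz, one_mul, mul_assoc]

/-- An involution fixed by a centraliser in the core of an element of the core lies in it. -/
theorem half_mem {v x : G} (hv : v ∈ S.J) (hxz : Commute x S.z) (x2 : x * x = 1)
    (h : ∀ j ∈ S.J, Commute j v → Commute j x) : x ∈ S.J := by
  by_contra hx
  obtain ⟨n1, n2⟩ := S.half_not hxz x2 hx
  have hle : (Subgroup.centralizer ({v} : Set G)).subgroupOf S.J ≤
      (Subgroup.centralizer ({x} : Set G)).subgroupOf S.J := fun j hj =>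
    Subgroup.mem_subgroupOf.mpr (Subgroup.mem_centralizer_singleton_iff.mpr
      (h j j.2 (Subgroup.mem_centralizer_singleton_iff.mp (Subgroup.mem_subgroupOf.mp hj))))
  have hd := Subgroup.index_dvd_of_le hle
  rcases S.index_two hv with e | e <;> rw [e] at hd
  · exact n1 (Nat.dvd_one.mp hd)
  · exact ((Nat.dvd_prime Nat.prime_two).mp hd).elim n1 n2

/-- A conjugate with the pulled involution in the core. -/
theorem good_of_J {g : G} (hI : ∀ w ∈ S.W, w ≠ 1 → S.IsoAt (S.z * w)) (hy : Commute (g * S.z * g⁻¹) S.z)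
    (hJ : g⁻¹ * S.z * g ∈ S.J) : S.Good g := by
  classical
  set z' := g⁻¹ * S.z * g with hz'
  by_cases hye : g * S.z * g⁻¹ = S.z
  · exact S.good_trivial hye
  -- an involution fixed by the whole centraliser in the core
  let C := S.J ⊓ Subgroup.centralizer ({z'} : Set G)
  have memC : ∀ {j}, j ∈ C ↔ j ∈ S.J ∧ Commute j z' := fun {j} => by
    show j ∈ S.J ∧ j ∈ Subgroup.centralizer ({z'} : Set G) ↔ _
    rw [Subgroup.mem_centralizer_singleton_iff]; rfl
  obtain ⟨w, hw, w1, hf⟩ := S.two_fix (K := C.map (MulAut.conj g).toMonoidHom)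
    ((S.isPGroup_J.to_le inf_le_left).map _) (by
      rintro _ ⟨j, hj, rfl⟩
      exact S.push (memC.mp hj).2)
  have hwy : Commute w (g * S.z * g⁻¹) := (hf _ ⟨S.z, memC.mpr ⟨S.zJ, (S.pull_z hy).symm⟩, rfl⟩).symm
  set x := g⁻¹ * w * g with hx
  have xz : Commute x S.z := S.pull hwy
  have x2 : x * x = 1 := by
    rw [hx, show g⁻¹ * w * g * (g⁻¹ * w * g) = g⁻¹ * (w * w) * g by group, S.Wsq w hw]; group
  have Cx : ∀ j ∈ S.J, Commute j z' → Commute j x := fun j hj hjz => by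
    have := (hf _ ⟨j, memC.mpr ⟨hj, hjz⟩, rfl⟩).map (MulAut.conj g⁻¹).toMonoidHom
    simpa [hx, mul_assoc] using this
  have xJ := S.half_mem hJ xz x2 Cx
  have ep : g⁻¹ * (S.z * w) * g = z' * x := by rw [hz', hx]; group
  have hle : ∀ j ∈ S.J, Commute j (z' * x) → Commute j z' := fun j hj hjp => by
    have h1 : Commute j (g⁻¹ * (S.z * w) * g) := by rw [ep]; exact hjp
    exact S.le (hI w hw w1) (by rw [(S.Wz hw).mul_mul_mul_comm, S.zz, S.Wsq w hw, mul_one])
      ((Commute.refl S.z).mul_left (S.Wz hw)) hy (hy.symm.mul_left hwy) (S.Jz j hj) h1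
  have zfin : (∀ j ∈ S.J, Commute z' j) → S.Good g := fun h => by
    refine absurd ?_ hye
    have e := S.central_eq (g := g⁻¹) fun j hj => by rw [inv_inv]; exact h j hj
    rw [inv_inv] at e
    calc g * S.z * g⁻¹ = g * (g⁻¹ * S.z * g) * g⁻¹ := by rw [e]
      _ = S.z := by group
  have cent : ∀ m, m ∈ S.W ∨ m * S.z ∈ S.W → ∀ j ∈ S.J, Commute m j := by
    rintro m (e | e) j hj
    · exact S.Wc m e j hj
    · have := (S.Wc _ e j hj).mul_left (S.Jz j hj).symm
      rwa [mul_assoc, S.zz, mul_one] at this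
  by_cases hc : ∀ j ∈ S.J, Commute j (z' * x)
  · exact zfin fun j hj => (hle j hj (hc j hj)).symm
  push Not at hc
  rcases S.cc (mul_mem hJ xJ) hJ hc (fun j hj hjp => (hle j hj hjp).symm) with e | e
  · exact zfin (cent z' e)
  have z2 : z' * z' = 1 := by
    rw [hz', show g⁻¹ * S.z * g * (g⁻¹ * S.z * g) = g⁻¹ * (S.z * S.z) * g by group, S.zz]; group
  rw [← mul_assoc, z2, one_mul] at e
  rcases e with e | e
  · exact S.good_of_mem hw w1 e
  · refine absurd (S.no_cross hI hy hw e (fun h => ?_) ?_) hye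
    · have h' : x = S.z := (mul_eq_one_iff_eq_inv.mp h).trans S.z_inv
      rw [hx] at h'
      exact absurd (show g * S.z * g⁻¹ = w by rw [← h']; group) (S.not_conj hw w1 (Or.inl rfl))
    · rw [show S.z * (x * S.z) = x by rw [(S.Jz x xJ).eq, ← mul_assoc, S.zz, one_mul], hx]
      group

end Setup

end CfsgLib.FiThreeType
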