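/-
Either the involution is isolated beside each involution of the four-group, or their centralisers normalise it.
-/
import Cfsg.Agent.Lib.FiThreeType.Le

set_option autoImplicit false
set_option maxRecDepth 100000
set_option linter.unusedVariables false
set_option linter.unusedSectionVars false
set_option linter.style.haveILetI false

namespace CfsgLib.FiThreeType

namespace Setup

variable {G : Type*} [Group G] [Finite G] {X : Type*} [Group X] (S : Setup G X)
variable {F : Type*} [Field F] [Fintype F]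

theorem exists_outer : ∃ h, Commute h S.z ∧ ¬ S.In h := by
  by_contra hall
  push Not at hall
  have hi := S.hN
  rw [show S.N = ⊤ from eq_top_iff.mpr fun x _ => by
    obtain ⟨h, rfl⟩ := S.hπ x
    exact (hall h.1 (S.mem_C.mp h.2)).2, Subgroup.index_top] at hi
  norm_num at hi

/-- An element outside fixing a given involution of the four-group. -/
theorem outer_fix {w : G} (hw : w ∈ S.W) (w1 : w ≠ 1) : ∃ t, Commute t S.z ∧ ¬ S.In t ∧ Commute t w := by
  obtain ⟨h, hh, hn⟩ := S.exists_outer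
  obtain ⟨ε, hε, hf⟩ := S.exists_stab hh hw w1
  have εz : Commute ε S.z := by rcases hε with rfl | rfl | rfl; exacts [Commute.one_left _, S.cz, S.cz.mul_left S.cz]
  have εIn : S.In ε := by
    rcases hε with rfl | rfl | rfl
    exacts [S.In_J (one_mem _), S.In_c, S.In_mul S.In_c S.In_c]
  exact ⟨ε * h, εz.mul_left hh, fun i => hn (by simpa using S.In_mul (S.In_inv εIn) i), hf⟩

/-- Without isolation beside an involution of the four-group the first involution is not isolated in the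
quotient. -/
theorem not_iso (hF : Fintype.card F = 3) (eN : Cfsg.PSp 2 F ≃* ↥S.N)
    (hIz : ∀ v ∈ S.W, v ≠ 1 → S.IsoAt (S.z * v)) {w : G} (hw : w ∈ S.W) (w1 : w ≠ 1) (hn : ¬ S.IsoAt w) :
    ¬ (S.glob w hw w1 w (Or.inl rfl)).base.Iso := by
  classical
  let K0 := GaloisField 2 2
  haveI : Fintype K0 := Fintype.ofFinite _
  have hK0 : Fintype.card K0 = 4 := by
    rw [← Nat.card_eq_fintype_card, GaloisField.card 2 2 (by norm_num)]; norm_num
  set P := S.glob w hw w1 w (Or.inl rfl) with hP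
  have hy := S.nx_mem hw
  have y1 : S.nx w ≠ 1 := ne_one_conj w1
  have memL : ∀ {g : G}, Commute g w → g ∈ P.L := fun h => Subgroup.mem_centralizer_singleton_iff.mpr h
  have hA : ∀ h, Commute h P.base.z → Commute h P.base.d := fun h hz => P.caseA rfl h hz
  intro hI
  have hI' : ¬ P.base.flip.Iso := fun hI' => hn fun g hg hc => P.isolated hF eN hI hI' g (memL hg) hc
  obtain ⟨hc, -⟩ := P.base.flip.case_A (K := K0) hF hK0 eN
    (fun h hz => (hA h hz).mul_right hz) hI'
  simp only [IsoAt, not_forall] at hn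
  obtain ⟨g, hg, hgz, hne⟩ := hn
  let wy : G := S.z * S.nx w
  have hzy : Commute S.z (S.nx w) := (S.Wz hy).symm
  have hcen : g * wy * g⁻¹ = wy ∨ g * wy * g⁻¹ = wy * w := by
    have h1 : (QuotientGroup.mk ((⟨g, memL hg⟩ : ↥P.L) * (P.yL * P.zL)) : P.Q) =
        QuotientGroup.mk (P.yL * P.zL * ⟨g, memL hg⟩) := (hc (QuotientGroup.mk ⟨g, memL hg⟩)).eq
    rcases P.mk_eq.mp h1 with (e : g * (S.nx w * S.z) = S.nx w * S.z * g) |
      (e : g * (S.nx w * S.z) = S.nx w * S.z * g * w)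
    · left; rw [show wy = S.nx w * S.z from hzy.eq, e, mul_inv_cancel_right]
    · right; rw [show wy = S.nx w * S.z from hzy.eq, e, mul_assoc _ g, hg.eq, ← mul_assoc, mul_inv_cancel_right]
  rcases hcen with e | e
  · exact hne (hIz _ hy y1 g (mul_inv_eq_iff_eq_mul.mp e) hgz)
  · obtain ⟨t, tz, tn, tw⟩ := S.outer_fix hw w1
    have et : g * t * S.z * (g * t)⁻¹ = g * S.z * g⁻¹ := by
      rw [show g * t * S.z * (g * t)⁻¹ = g * (t * S.z * t⁻¹) * g⁻¹ by group, tz.eq, mul_inv_cancel_right]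
    refine hne ?_
    rw [← et]
    refine hIz _ hy y1 _ (mul_inv_eq_iff_eq_mul.mp ?_) (by rw [et]; exact hgz)
    calc g * t * wy * (g * t)⁻¹ = g * (t * S.z * t⁻¹ * (t * S.nx w * t⁻¹)) * g⁻¹ := by
          show g * t * (S.z * S.nx w) * (g * t)⁻¹ = _; group
      _ = g * (S.z * (S.nx w * w)) * g⁻¹ := by
          rw [tz.eq, mul_inv_cancel_right, S.outer_move tz tn hw w1 tw, (S.W_comm hw hy).eq]
      _ = g * wy * g⁻¹ * (g * w * g⁻¹) := by show _ = g * (S.z * S.nx w) * g⁻¹ * _; group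
      _ = wy := by rw [e, hg.eq, mul_inv_cancel_right, mul_assoc, S.Wsq w hw, mul_one]

/-- Without isolation beside an involution of the four-group its centraliser normalises the four-group. -/
theorem norm_one (hF : Fintype.card F = 3) (eN : Cfsg.PSp 2 F ≃* ↥S.N)
    (hIz : ∀ v ∈ S.W, v ≠ 1 → S.IsoAt (S.z * v)) {w : G} (hw : w ∈ S.W) (w1 : w ≠ 1) (hn : ¬ S.IsoAt w) {k : G}
    (hk : Commute k w) : k ∈ S.M := by
  classical
  let K0 := GaloisField 2 2
  haveI : Fintype K0 := Fintype.ofFinite _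
  have hK0 : Fintype.card K0 = 4 := by
    rw [← Nat.card_eq_fintype_card, GaloisField.card 2 2 (by norm_num)]; norm_num
  set P := S.glob w hw w1 w (Or.inl rfl) with hP
  have hy := S.nx_mem hw
  have y1 : S.nx w ≠ 1 := ne_one_conj w1
  have memL : ∀ {g : G}, Commute g w → g ∈ P.L := fun h => Subgroup.mem_centralizer_singleton_iff.mpr h
  have hA : ∀ h, Commute h P.base.z → Commute h P.base.d := fun h hz => P.caseA rfl h hz
  have hI := S.not_iso hF eN hIz hw w1 hn
  obtain ⟨hc, -⟩ := P.base.case_A (K := K0) hF hK0 eN hA hI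
  have hyk : k * S.nx w * k⁻¹ = S.nx w ∨ k * S.nx w * k⁻¹ = S.nx w * w := by
    have h1 : (QuotientGroup.mk ((⟨k, memL hk⟩ : ↥P.L) * P.yL) : P.Q) =
        QuotientGroup.mk (P.yL * ⟨k, memL hk⟩) := (hc (QuotientGroup.mk ⟨k, memL hk⟩)).eq
    rcases P.mk_eq.mp h1 with (e : k * S.nx w = S.nx w * k) | (e : k * S.nx w = S.nx w * k * w)
    · left; rw [e, mul_inv_cancel_right]
    · right; rw [e, mul_assoc _ k, hk.eq, ← mul_assoc, mul_inv_cancel_right]
  refine S.mem_M.mpr fun v hv => ?_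
  have hkw : k * w * k⁻¹ = w := by rw [hk.eq, mul_inv_cancel_right]
  have hyk' : k * S.nx w * k⁻¹ ∈ S.W := by
    rcases hyk with e | e <;> rw [e]
    exacts [hy, mul_mem hy hw]
  rcases S.W_eq hw w1 hv with rfl | rfl | rfl | rfl
  · simp
  · rw [hkw]; exact hw
  · exact hyk'
  · rw [show k * (w * S.nx w) * k⁻¹ = k * w * k⁻¹ * (k * S.nx w * k⁻¹) by group, hkw]
    exact mul_mem hw hyk'


/-- The two cases. -/
theorem split (hF : Fintype.card F = 3) (eN : Cfsg.PSp 2 F ≃* ↥S.N)
    (hIz : ∀ v ∈ S.W, v ≠ 1 → S.IsoAt (S.z * v)) :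
    (∀ v ∈ S.W, v ≠ 1 → S.IsoAt v) ∨ ∀ v ∈ S.W, v ≠ 1 → ∀ k, Commute k v → k ∈ S.M := by
  by_cases h : ∀ v ∈ S.W, v ≠ 1 → S.IsoAt v
  · exact Or.inl h
  push Not at h
  obtain ⟨w, hw, w1, hn⟩ := h
  refine Or.inr fun v hv v1 k hk => ?_
  obtain ⟨h, hh, e⟩ := S.trans hw w1 hv v1
  have h1 : Commute (h⁻¹ * k * h) w := by
    rw [← e] at hk
    have := hk.map (MulAut.conj h⁻¹).toMonoidHom
    simpa [mul_assoc] using this
  have := mul_mem (mul_mem (S.C_le_M hh) (S.norm_one hF eN hIz hw w1 hn h1)) (inv_mem (S.C_le_M hh))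
  rwa [show h * (h⁻¹ * k * h) * h⁻¹ = k by group] at this

end Setup

end CfsgLib.FiThreeType
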