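/-
A subgroup of index two meeting the centraliser in the preimage of the simple group.
-/
import Cfsg.Agent.Lib.FiThreeType.Middle
import Cfsg.Agent.Lib.FiTwoType.Transfer

set_option autoImplicit false
set_option maxRecDepth 100000
set_option linter.unusedVariables false
set_option linter.unusedSectionVars false
set_option linter.style.haveILetI false

namespace CfsgLib.FiThreeType

namespace Setup

variable {G : Type*} [Group G] [Finite G] {X : Type*} [Group X] (S : Setup G X)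

theorem exists_W : ∃ w ∈ S.W, w ≠ 1 := by
  classical
  haveI : Finite ↥S.W := Nat.finite_of_card_ne_zero (by rw [S.cardW]; norm_num)
  haveI : Nontrivial ↥S.W := by rw [← Finite.one_lt_card_iff_nontrivial, S.cardW]; norm_num
  obtain ⟨⟨w, hw⟩, w1⟩ := exists_ne (1 : ↥S.W)
  exact ⟨w, hw, fun e => w1 (Subtype.ext e)⟩

theorem In_of_cent {h : G} (hh : Commute h S.z) (hc : ∀ v ∈ S.W, Commute h v) : S.In h := by
  by_contra hn
  obtain ⟨w, hw, w1⟩ := S.exists_W
  have e := S.outer_move hh hn hw w1 (hc w hw)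
  rw [(hc _ (S.nx_mem hw)).eq, mul_inv_cancel_right] at e
  exact w1 (right_eq_mul.mp e)

/-- The conjugates in the core. -/
theorem core_conj (hIz : ∀ v ∈ S.W, v ≠ 1 → S.IsoAt (S.z * v))
    (hcase : (∀ v ∈ S.W, v ≠ 1 → S.IsoAt v) ∨ ∀ v ∈ S.W, v ≠ 1 → ∀ k, Commute k v → k ∈ S.M)
    {g : G} (hy : g * S.z * g⁻¹ ∈ S.J) : g * S.z * g⁻¹ = S.z ∨ g ∈ S.M := by
  have hyz := S.Jz _ hy
  have e : g⁻¹⁻¹ * S.z * g⁻¹ = g * S.z * g⁻¹ := by group
  have hG := S.good_of_J (g := g⁻¹) hIz (by rw [inv_inv]; exact S.pull_z hyz) (by rw [e]; exact hy)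
  rcases hcase with hI | hM
  · left
    have h := S.good_iso (g := g⁻¹) (by rw [inv_inv]; exact S.pull_z hyz) hI hG
    rw [inv_inv] at h
    calc g * S.z * g⁻¹ = g * (g⁻¹ * S.z * g) * g⁻¹ := by rw [h]
      _ = S.z := by group
  · exact Or.inr (inv_mem_iff.mp (S.good_norm hM hG))

/-- The transfer. -/
theorem extend_N (hIz : ∀ v ∈ S.W, v ≠ 1 → S.IsoAt (S.z * v))
    (hcase : (∀ v ∈ S.W, v ≠ 1 → S.IsoAt v) ∨ ∀ v ∈ S.W, v ≠ 1 → ∀ k, Commute k v → k ∈ S.M) :
    ∃ G1 : Subgroup G, G1.index = 2 ∧ ∀ h, Commute h S.z → (h ∈ G1 ↔ S.In h) := by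
  obtain ⟨G1, h1, h2⟩ := FiTwoType.transfer_two S.orderOf_z S.J_le_C S.zJ
    (fun g hg e he => S.conjJ g (S.mem_C.mp hg) e he) S.isPGroup_J S.sq2 S.comm2
    (fun x hx => S.central_eq fun e he => (show Commute e (x * S.z * x⁻¹) from hx e he).symm)
    (fun w hw h2 hJ => S.half_not (S.mem_C.mp hw) h2 hJ) S.four (k := 11) (by rw [S.card]; norm_num)
    (S.N.comap S.π) (by rw [Subgroup.index_comap_of_surjective _ S.hπ, S.hN]) (by
      intro x hx hne e he hc hm
      have hxM := (S.core_conj hIz hcase hx).resolve_left hne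
      obtain ⟨_, h⟩ := S.In_of_cent (S.mem_C.mp hm) fun v hv => by
        have h1 : Commute e (x * v * x⁻¹) := (S.Wc _ (S.mem_M.mp hxM v hv) e he).symm
        have := h1.map (MulAut.conj x⁻¹).toMonoidHom
        simpa [mul_assoc] using this
      exact Subgroup.mem_comap.mpr h)
  refine ⟨G1, h1, fun h hh => (h2 h (S.mem_C.mpr hh)).trans ⟨fun e => ⟨_, Subgroup.mem_comap.mp e⟩, fun e => ?_⟩⟩
  obtain ⟨_, e⟩ := e
  exact Subgroup.mem_comap.mpr e

end Setup

end CfsgLib.FiThreeType
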