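/-
Natural coordinates of the core modulo its centre, for the elements centralising the four-group.
-/
import Cfsg.Agent.Lib.FiThreeType.Transfer
import Cfsg.Agent.Lib.FiTwoType.Ten

set_option autoImplicit false
set_option maxRecDepth 100000
set_option linter.unusedVariables false
set_option linter.unusedSectionVars false
set_option linter.style.haveILetI false

namespace CfsgLib.FiThreeType

open FiTwoType (T1 T2 fixL dispL)
open CfsgLib.SixTwoType (psi)
open U6Rec (app comp InU one elt qf)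

attribute [local irreducible] U6Rec.comp U6Rec.app SixTwoType.psi T1 T2

/-- Codes whose stabiliser images and a relation leave only two possibilities. -/
theorem six_rel : ((List.range 256).all fun v =>
    !(([(0, 80), (0, 96), (0, 130), (15, 9)] : List (ℕ × ℕ)).all fun p => Nat.beq (app (psi (elt p)) v) v) ||
    !Nat.beq (app (psi (elt (0, 0))) v ^^^ app (psi (elt (0, 15))) v) (app (psi (elt (0, 14))) v) ||
    Nat.beq v 0 || Nat.beq v 1) = true ∧
    (([(0, 80), (0, 96), (0, 130), (15, 9)] : List (ℕ × ℕ)).all fun p => Nat.blt p.1 135 && Nat.blt p.2 192 &&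
      Nat.beq (app (psi (elt p)) 1) 1) = true ∧
    app (psi (elt (0, 0))) 1 ^^^ app (psi (elt (0, 15))) 1 = app (psi (elt (0, 14))) 1 := by decide +kernel

namespace Setup

variable {G : Type*} [Group G] [Finite G] {X : Type*} [Group X] (S : Setup G X)

/-- The centre of the core. -/
def Cen : Subgroup G where
  carrier := {m | m ∈ S.W ∨ m * S.z ∈ S.W}
  one_mem' := Or.inl (one_mem _)
  mul_mem' := fun {a b} ha hb => by
    have hz : ∀ {u}, u ∈ S.W → Commute u S.z := fun hu => S.Wz hu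
    rcases ha with ha | ha <;> rcases hb with hb | hb
    · exact Or.inl (mul_mem ha hb)
    · exact Or.inr (by rw [mul_assoc]; exact mul_mem ha hb)
    · refine Or.inr ?_
      rw [show a * b * S.z = a * (b * S.z) from mul_assoc _ _ _, (hz hb).eq, ← mul_assoc]
      exact mul_mem ha hb
    · refine Or.inl ?_
      have := mul_mem ha hb
      rwa [show a * S.z * (b * S.z) = a * (S.z * (b * S.z)) from mul_assoc _ _ _, ← (hz hb).eq, mul_assoc b, S.zz,
        mul_one] at this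
  inv_mem' := fun {a} ha => by
    rcases ha with ha | ha
    · exact Or.inl (inv_mem ha)
    · refine Or.inr ?_
      have := inv_mem ha
      rw [mul_inv_rev, S.z_inv] at this
      have h2 := mul_mem this (one_mem S.W)
      rw [mul_one] at h2
      have e : a⁻¹ * S.z = S.z * a⁻¹ := by
        have hc : Commute (a * S.z) S.z := S.Wz ha
        have hc' : Commute a S.z := by
          have := hc.mul_left (Commute.refl S.z).inv_left
          rwa [mul_inv_cancel_right] at this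
        exact hc'.inv_left.eq
      rw [e]; exact h2

theorem mem_Cen {m : G} : m ∈ S.Cen ↔ m ∈ S.W ∨ m * S.z ∈ S.W := Iff.rfl

theorem z_Cen : S.z ∈ S.Cen := Or.inr (by rw [S.zz]; exact one_mem _)

theorem Cen_J {m : G} (hm : m ∈ S.Cen) : m ∈ S.J := by
  rcases hm with e | e
  · exact S.WJ e
  · have := mul_mem (S.WJ e) S.zJ
    rwa [mul_assoc, S.zz, mul_one] at this

theorem Cen_comm {m : G} (hm : m ∈ S.Cen) {j : G} (hj : j ∈ S.J) : Commute m j := by
  rcases hm with e | e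
  · exact S.Wc m e j hj
  · have := (S.Wc _ e j hj).mul_left (S.Jz j hj).symm
    rwa [mul_assoc, S.zz, mul_one] at this

theorem Cen_sq {m : G} (hm : m ∈ S.Cen) : m * m = 1 := by
  rcases hm with e | e
  · exact S.Wsq m e
  · have h := S.Wsq _ e
    have hc : Commute S.z (m * S.z) := (S.Wz e).symm
    have e0 : m = m * S.z * S.z := by rw [mul_assoc, S.zz, mul_one]
    rw [e0, (S.Wz e).symm.mul_mul_mul_comm, h, S.zz, mul_one]

theorem Cen_conj {h m : G} (hh : Commute h S.z) (hm : m ∈ S.Cen) : h * m * h⁻¹ ∈ S.Cen := by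
  rcases hm with e | e
  · exact Or.inl (S.conjW h hh m e)
  · refine Or.inr ?_
    have := S.conjW h hh _ e
    rwa [show h * (m * S.z) * h⁻¹ = h * m * h⁻¹ * (h * S.z * h⁻¹) by group, hh.eq, mul_inv_cancel_right] at this

/-- The elements of the preimage centralising the four-group. -/
def InW (h : G) : Prop := S.In h ∧ ∀ v ∈ S.W, Commute h v

theorem InW_comm {h : G} (hh : S.InW h) : Commute h S.z := S.In_comm hh.1

theorem InW_J {j : G} (hj : j ∈ S.J) : S.InW j := ⟨S.In_J hj, fun v hv => (S.Wc v hv j hj).symm⟩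

theorem InW_mul {a b : G} (ha : S.InW a) (hb : S.InW b) : S.InW (a * b) :=
  ⟨S.In_mul ha.1 hb.1, fun v hv => (ha.2 v hv).mul_left (hb.2 v hv)⟩

theorem InW_inv {a : G} (ha : S.InW a) : S.InW a⁻¹ := ⟨S.In_inv ha.1, fun v hv => (ha.2 v hv).inv_left⟩

theorem InW_Cen {h m : G} (hh : S.InW h) (hm : m ∈ S.Cen) : Commute h m := by
  rcases hm with e | e
  · exact hh.2 m e
  · have := (hh.2 _ e).mul_right (S.InW_comm hh)
    rwa [mul_assoc, S.zz, mul_one] at this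

theorem InW_conj {a h : G} (ha : S.InW a) (hh : Commute h S.z) : S.InW (h * a * h⁻¹) :=
  ⟨S.In_conj ha.1 hh, fun v hv => by
    have hv' : h⁻¹ * v * h ∈ S.W := by simpa using S.conjW _ hh.inv_left v hv
    have := (ha.2 _ hv').map (MulAut.conj h).toMonoidHom
    simpa [mul_assoc] using this⟩

theorem InW_of {h w : G} (hh : S.In h) (hw : w ∈ S.W) (w1 : w ≠ 1) (hf : Commute h w) : S.InW h :=
  ⟨hh, S.In_fix hh hw w1 hf⟩

theorem c_moves {x : G} (hx : ∀ v ∈ S.W, Commute x v) : x * S.c ∉ S.J ∧ x * S.c * S.c ∉ S.J := by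
  obtain ⟨w, hw, w1⟩ := S.exists_W
  refine ⟨fun h => S.nx_ne hw w1 ?_, fun h => ?_⟩
  · have h2 := (hx w hw).inv_left.mul_left (S.Wc w hw _ h).symm
    rw [inv_mul_cancel_left] at h2
    simp only [nx]; rw [h2.eq, mul_inv_cancel_right]
  · have h2 := (hx w hw).inv_left.mul_left (show Commute (x * (S.c * S.c)) w by
      rw [← mul_assoc]; exact (S.Wc w hw _ h).symm)
    rw [inv_mul_cancel_left] at h2
    have e2 : S.nx (S.nx w) = w := by
      rw [show S.nx (S.nx w) = S.c * S.c * w * (S.c * S.c)⁻¹ by simp only [nx]; group, h2.eq, mul_inv_cancel_right]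
    rw [S.nx_nx hw] at e2
    exact absurd (mul_eq_left.mp e2) (ne_one_conj w1)

/-- Each element is congruent to one commuting with the element of order three. -/
theorem lift_c {h : G} (hh : S.InW h) : ∃ k, S.InW k ∧ Commute k S.c ∧ h⁻¹ * k ∈ S.J := by
  obtain ⟨hC, hp⟩ := hh.1
  obtain ⟨k, kC, kc, ek⟩ := S.lifts _ hp
  obtain ⟨w, hw, w1⟩ := S.exists_W
  obtain ⟨ε, hε, hf⟩ := S.exists_stab (S.mem_C.mp kC) hw w1
  have εc : Commute ε S.c := by
    rcases hε with rfl | rfl | rfl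
    exacts [Commute.one_left _, Commute.refl _, (Commute.refl S.c).mul_left (Commute.refl _)]
  have εIn : S.In ε := by
    rcases hε with rfl | rfl | rfl
    exacts [S.In_J (one_mem _), S.In_c, S.In_mul S.In_c S.In_c]
  have kIn : S.In k := ⟨kC, by rw [ek]; exact hp⟩
  have hk := S.InW_of (S.In_mul εIn kIn) hw w1 hf
  refine ⟨ε * k, hk, εc.mul_left kc, ?_⟩
  have hεC : ε ∈ Subgroup.centralizer ({S.z} : Set G) := S.mem_C.mpr (S.In_comm εIn)
  have e1 : S.π (⟨h, hC⟩⁻¹ * (⟨ε, hεC⟩ * ⟨k, kC⟩)) = 1 := by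
    have e0 : S.π ⟨ε, hεC⟩ = 1 := by
      rw [S.hk]
      rcases hε with rfl | rfl | rfl
      · exact Or.inl (one_mem _)
      · exact Or.inr (Or.inr (by show S.c * S.c * S.c ∈ S.J; rw [S.c3]; exact one_mem _))
      · exact Or.inr (Or.inl (by show S.c * S.c * S.c ∈ S.J; rw [S.c3]; exact one_mem _))
    rw [map_mul, map_inv, map_mul, e0, one_mul, ek, inv_mul_cancel]
  obtain ⟨n1, n2⟩ := S.c_moves (x := h⁻¹ * (ε * k)) (S.InW_mul (S.InW_inv hh) hk).2
  rcases (S.hk _).mp e1 with e | e | e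
  · exact e
  · exact absurd e n1
  · exact absurd e n2

/-- An element of the core fixed by the element of order three modulo the centre is central. -/
theorem fix_c {x : G} (hx : x ∈ S.J) (hc : S.c * x * S.c⁻¹ * x⁻¹ ∈ S.Cen) : x ∈ S.Cen := by
  classical
  set ζ := S.c * x * S.c⁻¹ * x⁻¹ with hζ
  haveI : Finite ↥S.W := Nat.finite_of_card_ne_zero (by rw [S.cardW]; norm_num)
  let f : ↥S.W → ↥S.W := fun v => ⟨S.nx v * v, mul_mem (S.nx_mem v.2) v.2⟩
  have finj : Function.Injective f := fun a b e => by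
    have e' : S.nx (a : G) * a = S.nx (b : G) * b := congrArg Subtype.val e
    have ha := S.nx_mem a.2
    have hb := S.nx_mem b.2
    have hu : S.nx ((a : G) * b) = (a : G) * b := by
      rw [nx_mul]
      calc S.nx (a : G) * S.nx (b : G) = S.nx (a : G) * a * ((a : G) * S.nx (b : G)) := by
            rw [mul_assoc, ← mul_assoc (a : G) a, S.Wsq _ a.2, one_mul]
        _ = S.nx (b : G) * b * ((a : G) * S.nx (b : G)) := by rw [e']
        _ = (a : G) * b * (S.nx (b : G) * S.nx (b : G)) := by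
            rw [(S.W_comm hb b.2).eq, mul_assoc, ← mul_assoc (S.nx (b : G)), (S.W_comm hb a.2).eq, ← mul_assoc,
              ← mul_assoc, (S.W_comm b.2 a.2).eq, mul_assoc ((a : G) * b)]
        _ = _ := by rw [S.Wsq _ hb, mul_one]
    have h1 : (a : G) * b = 1 := by
      by_contra hne
      exact S.nx_ne (mul_mem a.2 b.2) hne hu
    exact Subtype.ext ((mul_eq_one_iff_eq_inv.mp h1).trans (S.W_inv b.2))
  obtain ⟨ζ0, hζ0, e0⟩ : ∃ ζ0 ∈ S.W, ζ = ζ0 ∨ ζ = ζ0 * S.z := by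
    rcases hc with e | e
    · exact ⟨ζ, e, Or.inl rfl⟩
    · exact ⟨_, e, Or.inr (by rw [mul_assoc, S.zz, mul_one])⟩
  obtain ⟨⟨v, hv⟩, ev⟩ := (Finite.injective_iff_surjective.mp finj) ⟨ζ0, hζ0⟩
  have ev' : S.nx v * v = ζ0 := congrArg Subtype.val ev
  have env : S.nx v = ζ0 * v := by rw [← ev', mul_assoc, S.Wsq v hv, mul_one]
  have hxv : x * v ∈ S.J := mul_mem hx (S.WJ hv)
  have econj : S.c * (x * v) * S.c⁻¹ = ζ * ζ0 * (x * v) := by
    calc S.c * (x * v) * S.c⁻¹ = ζ * x * S.nx v := by rw [hζ]; simp only [nx]; group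
      _ = ζ * (x * ζ0) * v := by rw [env]; group
      _ = _ := by rw [(S.Wc _ hζ0 x hx).eq.symm]; group
  have fin : x * v ∈ S.Cen → x ∈ S.Cen := fun h => by
    have := mul_mem h (show v ∈ S.Cen from Or.inl hv)
    rwa [mul_assoc, S.Wsq v hv, mul_one] at this
  rcases e0 with e | e
  · rw [e, S.Wsq _ hζ0, one_mul] at econj
    rcases S.cfix _ hxv (mul_inv_eq_iff_eq_mul.mp econj) with e' | e' <;> refine fin ?_ <;> rw [e']
    exacts [one_mem _, S.z_Cen]
  · exfalso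
    rw [e, mul_assoc ζ0, ← (S.Wz hζ0).eq, ← mul_assoc ζ0, S.Wsq _ hζ0, one_mul] at econj
    set u := x * v
    have h3 : S.c * S.c * S.c * u * (S.c * S.c * S.c)⁻¹ = S.z * u := by
      calc S.c * S.c * S.c * u * (S.c * S.c * S.c)⁻¹ = S.c * (S.c * (S.z * u) * S.c⁻¹) * S.c⁻¹ := by
            rw [← econj]; group
        _ = S.c * (S.z * (S.z * u)) * S.c⁻¹ := by
            rw [show S.c * (S.z * u) * S.c⁻¹ = S.c * S.z * S.c⁻¹ * (S.c * u * S.c⁻¹) by group, S.cz.eq,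
              mul_inv_cancel_right, econj]
        _ = S.c * u * S.c⁻¹ := by rw [← mul_assoc S.z, S.zz, one_mul]
        _ = S.z * u := econj
    rw [S.c3, one_mul, inv_one, mul_one, eq_comm, mul_eq_right] at h3
    exact S.z1 h3

/-- Coordinates. -/
structure Coord (φ : ℕ → ℕ) where
  co : G → ℕ
  co_lt : ∀ j ∈ S.J, co j < 256
  co_mul : ∀ a ∈ S.J, ∀ b ∈ S.J, co (a * b) = co a ^^^ co b
  co_ker : ∀ j ∈ S.J, co j = 0 ↔ j ∈ S.Cen
  co_surj : ∀ v < 256, ∃ j ∈ S.J, co j = v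
  ρ : G → ℕ
  ρ_mem : ∀ h, S.InW h → InU (ρ h)
  ρ_mul : ∀ a b, S.InW a → S.InW b → ρ (a * b) = comp (ρ a) (ρ b)
  ρ_J : ∀ h, S.InW h → (ρ h = one ↔ h ∈ S.J)
  ρ_surj : ∀ u, InU u → ∃ h, S.InW h ∧ ρ h = u
  co_conj : ∀ h, S.InW h → ∀ j ∈ S.J, co (h * j * h⁻¹) = app (φ (ρ h)) (co j)
  cls : ∀ b, S.InW b → b * b = 1 → b ∉ S.J → ∃ h, S.InW h ∧ (ρ (h * b * h⁻¹) = T1 ∨ ρ (h * b * h⁻¹) = T2)

namespace Coord

variable {S} {φ : ℕ → ℕ} (M : S.Coord φ)

theorem co_one : M.co 1 = 0 := (M.co_ker 1 (one_mem _)).mpr (one_mem _)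

theorem co_inv {j : G} (hj : j ∈ S.J) : M.co j⁻¹ = M.co j := by
  have h := M.co_mul j⁻¹ (inv_mem hj) j hj
  rw [inv_mul_cancel, M.co_one] at h
  exact U42Act.xzero h.symm

theorem co_eq {a b : G} (ha : a ∈ S.J) (hb : b ∈ S.J) (e : M.co a = M.co b) : b⁻¹ * a ∈ S.Cen := by
  rw [← M.co_ker _ (mul_mem (inv_mem hb) ha), M.co_mul _ (inv_mem hb) _ ha, M.co_inv hb, e, Nat.xor_self]

theorem co_congr {a b : G} (ha : a ∈ S.J) (hb : b ∈ S.J) (h : b⁻¹ * a ∈ S.Cen) : M.co a = M.co b := by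
  rw [← M.co_ker _ (mul_mem (inv_mem hb) ha), M.co_mul _ (inv_mem hb) _ ha, M.co_inv hb] at h
  exact (U42Act.xzero h).symm

theorem ρ_one : M.ρ 1 = one := (M.ρ_J 1 (S.InW_J (one_mem _))).mpr (one_mem _)

theorem ρ_inv {h : G} (hh : S.InW h) : comp (M.ρ h⁻¹) (M.ρ h) = one ∧ comp (M.ρ h) (M.ρ h⁻¹) = one := by
  rw [← M.ρ_mul _ _ (S.InW_inv hh) hh, ← M.ρ_mul _ _ hh (S.InW_inv hh), inv_mul_cancel, mul_inv_cancel, M.ρ_one]
  exact ⟨rfl, rfl⟩

theorem ρ_mulJ {h i : G} (hh : S.InW h) (hi : i ∈ S.J) : M.ρ (h * i) = M.ρ h := by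
  rw [M.ρ_mul h i hh (S.InW_J hi), (M.ρ_J i (S.InW_J hi)).mpr hi, ← M.ρ_one, ← M.ρ_mul h 1 hh (S.InW_J (one_mem _)),
    mul_one]

/-- Conjugation by the element of order three respects the action. -/
theorem c_equiv {h j : G} (hh : S.InW h) (hj : j ∈ S.J) :
    M.co (S.c * (h * j * h⁻¹) * S.c⁻¹) = app (φ (M.ρ h)) (M.co (S.c * j * S.c⁻¹)) := by
  obtain ⟨k, hk, kc, hi⟩ := S.lift_c hh
  set i := h⁻¹ * k with hid
  have ek : k = h * i := by rw [hid, mul_inv_cancel_left]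
  have hkJ := S.conjJ k (S.InW_comm hk) j hj
  have hhJ := S.conjJ h (S.InW_comm hh) j hj
  have e1 : M.co (k * j * k⁻¹) = M.co (h * j * h⁻¹) := by
    rw [M.co_conj k hk j hj, M.co_conj h hh j hj, ek, M.ρ_mulJ hh hi]
  have hcj := S.conjJ _ S.cz j hj
  calc M.co (S.c * (h * j * h⁻¹) * S.c⁻¹) = M.co (S.c * (k * j * k⁻¹) * S.c⁻¹) := by
        refine M.co_congr (S.conjJ _ S.cz _ hhJ) (S.conjJ _ S.cz _ hkJ) ?_
        have := S.Cen_conj S.cz (M.co_eq hhJ hkJ e1.symm)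
        rwa [show S.c * ((k * j * k⁻¹)⁻¹ * (h * j * h⁻¹)) * S.c⁻¹ =
          (S.c * (k * j * k⁻¹) * S.c⁻¹)⁻¹ * (S.c * (h * j * h⁻¹) * S.c⁻¹) by group] at this
    _ = M.co (k * (S.c * j * S.c⁻¹) * k⁻¹) := by
        rw [show S.c * (k * j * k⁻¹) * S.c⁻¹ = (S.c * k) * j * (S.c * k)⁻¹ by group, ← kc.eq]
        congr 1; group
    _ = _ := by rw [M.co_conj k hk _ hcj, ek, M.ρ_mulJ hh hi]

end Coord

/-- The fixed plane cannot be present. -/
theorem no_six (M : S.Coord psi) : False := by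
  obtain ⟨hv0, hgen, hrel⟩ := six_rel
  obtain ⟨j, hj, ej⟩ := M.co_surj 1 (by norm_num)
  set v := M.co (S.c * j * S.c⁻¹) with hv
  have hcj := S.conjJ _ S.cz j hj
  have hlift : ∀ p : ℕ × ℕ, p.1 < 135 → p.2 < 192 → ∃ h, S.InW h ∧ M.ρ h = elt p := fun p h1 h2 =>
    M.ρ_surj _ (U6Rec.inU_elt h1 h2)
  have h := List.all_eq_true.mp hv0 v (List.mem_range.mpr (M.co_lt _ hcj))
  simp only [Bool.or_eq_true, Bool.not_eq_true', ← Bool.not_eq_true, Nat.beq_eq, List.all_eq_true] at h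
  rcases h with ((h | h) | h) | h
  · refine h fun p hp => ?_
    have hb := List.all_eq_true.mp hgen p hp
    simp only [Bool.and_eq_true, Nat.beq_eq] at hb
    obtain ⟨k, hk, ek⟩ := hlift p (Nat.ble_eq.mp hb.1.1) (Nat.ble_eq.mp hb.1.2)
    rw [hv, ← ek, ← M.c_equiv hk hj]
    have hkJ := S.conjJ k (S.InW_comm hk) j hj
    refine M.co_congr (S.conjJ _ S.cz _ hkJ) hcj ?_
    have := S.Cen_conj S.cz (M.co_eq hkJ hj (by rw [M.co_conj k hk j hj, ek, ej, hb.2]))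
    rwa [show S.c * (j⁻¹ * (k * j * k⁻¹)) * S.c⁻¹ = (S.c * j * S.c⁻¹)⁻¹ * (S.c * (k * j * k⁻¹) * S.c⁻¹) by group]
      at this
  · obtain ⟨a, ha, ea⟩ := hlift (0, 0) (by norm_num) (by norm_num)
    obtain ⟨b, hb, eb⟩ := hlift (0, 15) (by norm_num) (by norm_num)
    obtain ⟨d, hd, ed⟩ := hlift (0, 14) (by norm_num) (by norm_num)
    refine h ?_
    have ja := S.conjJ a (S.InW_comm ha) j hj
    have jb := S.conjJ b (S.InW_comm hb) j hj
    have jd := S.conjJ d (S.InW_comm hd) j hj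
    rw [hv, ← ea, ← eb, ← ed, ← M.c_equiv ha hj, ← M.c_equiv hb hj, ← M.c_equiv hd hj,
      ← M.co_mul _ (S.conjJ _ S.cz _ ja) _ (S.conjJ _ S.cz _ jb)]
    refine M.co_congr (mul_mem (S.conjJ _ S.cz _ ja) (S.conjJ _ S.cz _ jb)) (S.conjJ _ S.cz _ jd) ?_
    have := S.Cen_conj S.cz (M.co_eq (mul_mem ja jb) jd (by
      rw [M.co_mul _ ja _ jb, M.co_conj a ha j hj, M.co_conj b hb j hj, M.co_conj d hd j hj, ea, eb, ed, ej, hrel]))
    rwa [show S.c * ((d * j * d⁻¹)⁻¹ * (a * j * a⁻¹ * (b * j * b⁻¹))) * S.c⁻¹ =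
      (S.c * (d * j * d⁻¹) * S.c⁻¹)⁻¹ * (S.c * (a * j * a⁻¹) * S.c⁻¹ * (S.c * (b * j * b⁻¹) * S.c⁻¹)) by group]
      at this
  · have h1 := S.Cen_conj S.cz.inv_left ((M.co_ker _ hcj).mp h)
    rw [show S.c⁻¹ * (S.c * j * S.c⁻¹) * S.c⁻¹⁻¹ = j by group, ← M.co_ker j hj, ej] at h1
    exact one_ne_zero h1
  · have h1 := M.co_eq hcj hj (h.trans ej.symm)
    have h2 := S.fix_c hj (by
      have := S.Cen_comm h1 hj
      rwa [show S.c * j * S.c⁻¹ * j⁻¹ = j * (j⁻¹ * (S.c * j * S.c⁻¹)) * j⁻¹ by group, ← this.eq, mul_inv_cancel_right])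
    rw [← M.co_ker j hj, ej] at h2
    exact one_ne_zero h2

/-- Coordinates from those of a quotient. -/
theorem coord_of {w : G} (hw : w ∈ S.W) (w1 : w ≠ 1) {φ q : ℕ → ℕ} (M : FiTwoType.Model (S.loc w hw w1).base φ q) :
    Nonempty (S.Coord φ) := by
  classical
  set P := S.loc w hw w1 with hP
  have jL : ∀ {j}, j ∈ S.J → j ∈ P.L := fun hj => P.J_L hj
  have wL : ∀ {h}, S.InW h → h ∈ P.L := fun hh => P.HL _ (S.InW_comm hh) (hh.2 w hw)
  have bIn : ∀ {h} (hh : S.InW h), P.base.In (QuotientGroup.mk ⟨h, wL hh⟩) := fun hh =>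
    (P.In_iff (g := ⟨_, wL hh⟩) (S.InW_comm hh)).mpr hh.1
  have out : ∀ (g : ↥P.L), P.base.In (QuotientGroup.mk g) → S.InW g := fun g hg =>
    S.InW_of ((P.In_iff (P.lift_comm (P.base.In_comm hg))).mp hg) hw w1 (S.mem_Hw.mp g.2).2
  have hZ : ∀ {j} (hj : j ∈ S.J), P.base.Z (QuotientGroup.mk ⟨j, jL hj⟩) ↔ j ∈ S.Cen := fun {j} hj => by
    constructor
    · exact fun h => S.centre j hj fun i hi => P.comm_lift (a := ⟨j, jL hj⟩) (b := ⟨i, jL hi⟩) hj hi
        (P.base.Z_comm h (P.mem_Jb.mpr hi : (QuotientGroup.mk ⟨i, jL hi⟩ : P.Q) ∈ P.Jb))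
    · refine fun h => P.base.centre _ (P.mem_Jb.mpr hj) ?_
      rintro _ ⟨i, hi, rfl⟩
      exact (show Commute (⟨j, jL hj⟩ : ↥P.L) i from Subtype.ext (S.Cen_comm h hi).eq).map (QuotientGroup.mk' _)
  let co : G → ℕ := fun g => if hg : g ∈ S.J then M.co (QuotientGroup.mk ⟨g, jL hg⟩) else 0
  have ce : ∀ g (hg : g ∈ S.J), co g = M.co (QuotientGroup.mk ⟨g, jL hg⟩) := fun g hg => dif_pos hg
  let ρ : G → ℕ := fun g => if hg : S.InW g then M.ρ (QuotientGroup.mk ⟨g, wL hg⟩) else one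
  have re : ∀ g (hg : S.InW g), ρ g = M.ρ (QuotientGroup.mk ⟨g, wL hg⟩) := fun g hg => dif_pos hg
  exact ⟨{
    co := co
    co_lt := fun j hj => by rw [ce j hj]; exact M.co_lt _ ((P.mem_Jb (g := ⟨j, jL hj⟩)).mpr hj)
    co_mul := fun a ha b hb => by
      rw [ce a ha, ce b hb, ce _ (mul_mem ha hb)]
      exact M.co_mul _ ((P.mem_Jb (g := ⟨a, jL ha⟩)).mpr ha) _ ((P.mem_Jb (g := ⟨b, jL hb⟩)).mpr hb)
    co_ker := fun j hj => by rw [ce j hj, M.co_ker _ ((P.mem_Jb (g := ⟨j, jL hj⟩)).mpr hj), hZ hj]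
    co_surj := fun v hv => by
      obtain ⟨q, ⟨i, hi, rfl⟩, e⟩ := M.co_surj v hv
      exact ⟨i, hi, (ce (i : G) hi).trans e⟩
    ρ := ρ
    ρ_mem := fun h hh => by rw [re h hh]; exact M.ρ_mem _ (bIn hh)
    ρ_mul := fun a b ha hb => by
      rw [re a ha, re b hb, re _ (S.InW_mul ha hb)]
      exact M.ρ_mul _ _ (bIn ha) (bIn hb)
    ρ_J := fun h hh => by rw [re h hh, M.ρ_J _ (bIn hh)]; exact P.mem_Jb
    ρ_surj := fun u hu => by
      obtain ⟨q, hq, e⟩ := M.ρ_surj u hu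
      obtain ⟨g, rfl⟩ := QuotientGroup.mk_surjective q
      exact ⟨g, out g hq, (re (g : G) (out g hq)).trans e⟩
    co_conj := fun h hh j hj => by
      rw [re h hh, ce j hj, ce _ (S.conjJ h (S.InW_comm hh) j hj)]
      exact M.co_conj _ (bIn hh) _ ((P.mem_Jb (g := ⟨j, jL hj⟩)).mpr hj)
    cls := fun b hb b2 bJ => by
      obtain ⟨q, hq, e⟩ := M.classify (bIn hb) (P.mk_one.mpr (Or.inl b2)) (fun h => bJ (P.mem_Jb.mp h))
      obtain ⟨g, rfl⟩ := QuotientGroup.mk_surjective q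
      have hg := out g hq
      refine ⟨g, hg, ?_⟩
      rw [re _ (S.InW_mul (S.InW_mul hg hb) (S.InW_inv hg))]
      exact e }⟩

variable {F : Type*} [Field F] [Fintype F]

/-- Natural coordinates. -/
theorem natural (hF : Fintype.card F = 3) (eN : Cfsg.PSp 2 F ≃* ↥S.N) : Nonempty (S.Coord id) := by
  obtain ⟨w, hw, w1⟩ := S.exists_W
  rcases (S.loc w hw w1).base.models hF eN with ⟨⟨M⟩⟩ | ⟨ε, hε, ⟨M⟩⟩
  · exact S.coord_of hw w1 M
  · obtain ⟨M'⟩ := S.coord_of hw w1 M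
    exact (S.no_six M').elim

end Setup

end CfsgLib.FiThreeType
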