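/-
Fixed points in the core of involutions outside it: lifts of fixed codes.
-/
import Cfsg.Agent.Lib.FiThreeType.Coord
import Cfsg.Agent.Lib.FiThreeType.Checks

set_option autoImplicit false
set_option maxRecDepth 100000
set_option linter.unusedVariables false
set_option linter.unusedSectionVars false
set_option linter.style.haveILetI false

namespace CfsgLib.FiThreeType

open FiTwoType (T1 T2 fixL dispL mem_fixL fixL_nodup)
open U6Rec (app comp InU one elt)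

attribute [local irreducible] U6Rec.comp U6Rec.app T1 T2

namespace Setup

variable {G : Type*} [Group G] [Finite G] {X : Type*} [Group X] {S : Setup G X}

theorem mem_both {u g v : ℕ} : v ∈ both u g ↔ v ∈ fixL u ∧ app g v = v := by
  simp [both, List.mem_filter, Nat.beq_eq]

namespace Coord

variable (M : S.Coord id)

theorem conj_code {h j : G} (hh : S.InW h) (hj : j ∈ S.J) : M.co (h * j * h⁻¹) = app (M.ρ h) (M.co j) :=
  M.co_conj h hh j hj

theorem comm_ρ {x y : G} (hx : S.InW x) (hy : S.InW y) (h : Commute x y) :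
    comp (M.ρ x) (M.ρ y) = comp (M.ρ y) (M.ρ x) := by
  rw [← M.ρ_mul _ _ hx hy, ← M.ρ_mul _ _ hy hx, h.eq]

theorem code_fix {e j : G} (he : S.InW e) (hj : j ∈ S.J) (h : Commute j e) : M.co j ∈ fixL (M.ρ e) :=
  mem_fixL.mpr ⟨M.co_lt j hj, by rw [← M.conj_code he hj, ← h.eq, mul_inv_cancel_right]⟩

/-- Fixed codes of an involution nearly centralised by an element moving all of them have lifts fixed up to the
involution of the centre. -/
theorem lift_fix {e R : G} (he : S.InW e) (hR : S.InW R) (hi : e⁻¹ * (R⁻¹ * e * R) ∈ S.J)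
    (hr : (both (M.ρ e) (M.ρ R)).length = 1) {v : ℕ} (hv : v ∈ fixL (M.ρ e)) :
    ∃ j ∈ S.J, M.co j = v ∧ ∃ ε, (ε = 1 ∨ ε = S.z) ∧ (Commute R e → ε = 1) ∧ e * j * e⁻¹ = j * ε := by
  classical
  set i := e⁻¹ * (R⁻¹ * e * R) with hid
  have eRe : e * R = R * (e * i) := by rw [hid]; group
  have hcc : comp (M.ρ e) (M.ρ R) = comp (M.ρ R) (M.ρ e) := by
    rw [← M.ρ_mul _ _ he hR, eRe, M.ρ_mul _ _ hR (S.InW_mul he (S.InW_J hi)), M.ρ_mulJ he hi]
  let s : Finset ℕ := (fixL (M.ρ e)).toFinset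
  let f : ℕ → ℕ := fun w => w ^^^ app (M.ρ R) w
  have mem : ∀ w ∈ s, f w ∈ s := by
    intro w hw
    obtain ⟨hw1, hw2⟩ := mem_fixL.mp (List.mem_toFinset.mp hw)
    refine List.mem_toFinset.mpr (mem_fixL.mpr ⟨U42Act.xlt hw1 (U6Rec.app_lt _ _), ?_⟩)
    show app (M.ρ e) (w ^^^ app (M.ρ R) w) = w ^^^ app (M.ρ R) w
    rw [U6Rec.app_add, hw2, ← U6Rec.app_comp, hcc, U6Rec.app_comp, hw2]
  have inj : Set.InjOn f s := by
    intro u hu w hw e'
    obtain ⟨hu1, hu2⟩ := mem_fixL.mp (List.mem_toFinset.mp hu)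
    obtain ⟨hw1, hw2⟩ := mem_fixL.mp (List.mem_toFinset.mp hw)
    have h0 : app (M.ρ R) (u ^^^ w) = u ^^^ w := by
      rw [U6Rec.app_add]
      have e'' : u ^^^ app (M.ρ R) u = w ^^^ app (M.ρ R) w := e'
      have := congrArg (fun t => u ^^^ t ^^^ app (M.ρ R) w) e''
      simp only [← Nat.xor_assoc, Nat.xor_self, Nat.zero_xor] at this
      rw [this, Nat.xor_assoc (u ^^^ w), Nat.xor_self, Nat.xor_zero]
    obtain ⟨k, hk⟩ := List.length_eq_one_iff.mp hr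
    have h1 : u ^^^ w ∈ both (M.ρ e) (M.ρ R) := mem_both.mpr ⟨mem_fixL.mpr ⟨U42Act.xlt hu1 hw1,
      by rw [U6Rec.app_add, hu2, hw2]⟩, h0⟩
    have h2 : (0 : ℕ) ∈ both (M.ρ e) (M.ρ R) :=
      mem_both.mpr ⟨mem_fixL.mpr ⟨by norm_num, U6Rec.app_zero _⟩, U6Rec.app_zero _⟩
    rw [hk, List.mem_singleton] at h1 h2
    exact U42Act.xzero (h1.trans h2.symm)
  have hmap : Set.SurjOn f s s := Finset.surjOn_of_injOn_of_card_le f mem inj le_rfl
  obtain ⟨w, hw, ew⟩ := hmap (List.mem_toFinset.mpr hv : v ∈ s)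
  obtain ⟨hw1, hw2⟩ := mem_fixL.mp (List.mem_toFinset.mp hw)
  obtain ⟨j, hj, rfl⟩ := M.co_surj w hw1
  have hej := S.conjJ e (S.InW_comm he) j hj
  have hζ := M.co_eq hej hj ((M.conj_code he hj).trans hw2)
  set κ := j⁻¹ * (e * j * e⁻¹) with hκ
  have hRj := S.conjJ R (S.InW_comm hR) j hj
  obtain ⟨ε, hε, hεi, hij⟩ : ∃ ε, (ε = 1 ∨ ε = S.z) ∧ (Commute R e → ε = 1) ∧ i * j * i⁻¹ = j * ε := by
    by_cases hc : Commute R e
    · have i1 : i = 1 := by
        rw [hid, mul_assoc R⁻¹, ← hc.eq, inv_mul_cancel_left, inv_mul_cancel]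
      exact ⟨1, Or.inl rfl, fun _ => rfl, by rw [i1]; group⟩
    · rcases S.comm2 i hi j hj with h | h
      · exact ⟨1, Or.inl rfl, fun _ => rfl, by rw [h.eq, mul_inv_cancel_right, mul_one]⟩
      · refine ⟨S.z, Or.inr rfl, fun h' => absurd h' hc, ?_⟩
        rw [h, mul_assoc S.z, mul_inv_cancel_right, ← (S.Jz j hj).eq]
  refine ⟨j * (R * j * R⁻¹), mul_mem hj hRj, ?_, ε, hε, hεi, ?_⟩
  · rw [M.co_mul _ hj _ hRj, M.conj_code hR hj]; exact ew
  · have hκJ := S.Cen_J hζ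
    have hεC : ∀ k, S.InW k → Commute k ε := fun k hk => by
      rcases hε with rfl | rfl
      exacts [Commute.one_right k, S.InW_comm hk]
    have e1 : e * (R * j * R⁻¹) * e⁻¹ = R * j * R⁻¹ * (κ * ε) := by
      calc e * (R * j * R⁻¹) * e⁻¹ = (e * R) * j * (e * R)⁻¹ := by group
        _ = R * (e * (i * j * i⁻¹) * e⁻¹) * R⁻¹ := by rw [eRe]; group
        _ = R * (e * j * e⁻¹ * (e * ε * e⁻¹)) * R⁻¹ := by rw [hij]; group
        _ = R * (j * κ * ε) * R⁻¹ := by rw [(hεC e he).eq, mul_inv_cancel_right, hκ, mul_inv_cancel_left]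
        _ = R * j * R⁻¹ * (R * κ * R⁻¹ * (R * ε * R⁻¹)) := by group
        _ = _ := by rw [(S.InW_Cen hR hζ).eq, mul_inv_cancel_right, (hεC R hR).eq, mul_inv_cancel_right]
    calc e * (j * (R * j * R⁻¹)) * e⁻¹ = e * j * e⁻¹ * (e * (R * j * R⁻¹) * e⁻¹) := by group
      _ = j * κ * (R * j * R⁻¹ * (κ * ε)) := by rw [e1, hκ, mul_inv_cancel_left]
      _ = j * (κ * (R * j * R⁻¹)) * κ * ε := by group
      _ = j * (R * j * R⁻¹ * κ) * κ * ε := by rw [(S.Cen_comm hζ hRj).eq]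
      _ = j * (R * j * R⁻¹) * (κ * κ) * ε := by group
      _ = _ := by rw [S.Cen_sq hζ, mul_one]

/-- The fixed codes are covered by two translates of those of the centraliser. -/
theorem cover {e R : G} (he : S.InW e) (hR : S.InW R) (hi : e⁻¹ * (R⁻¹ * e * R) ∈ S.J)
    (hr : (both (M.ρ e) (M.ρ R)).length = 1) (L : List ℕ) (hL : ∀ j ∈ S.J, Commute j e → M.co j ∈ L) :
    (fixL (M.ρ e)).length ≤ 2 * L.length := by
  classical
  have lifts : ∀ v ∈ fixL (M.ρ e), v ∈ L ∨ ∃ j ∈ S.J, M.co j = v ∧ e * j * e⁻¹ = j * S.z := by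
    intro v hv
    obtain ⟨j, hj, ej, ε, hε, -, hc⟩ := M.lift_fix he hR hi hr hv
    rcases hε with rfl | rfl
    · refine Or.inl (ej ▸ hL j hj ?_)
      rw [mul_one] at hc
      exact (mul_inv_eq_iff_eq_mul.mp hc).symm
    · exact Or.inr ⟨j, hj, ej, hc⟩
  by_cases hall : ∀ v ∈ fixL (M.ρ e), v ∈ L
  · have := ((fixL_nodup _).subperm hall).length_le
    omega
  push Not at hall
  obtain ⟨v1, hv1, nv1⟩ := hall
  obtain ⟨j1, hj1, rfl, hc1⟩ := (lifts v1 hv1).resolve_left nv1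
  have hsub : ∀ v ∈ fixL (M.ρ e), v ∈ L ++ L.map (M.co j1 ^^^ ·) := by
    intro v hv
    rcases lifts v hv with h | ⟨j, hj, rfl, hc⟩
    · exact List.mem_append_left _ h
    · refine List.mem_append_right _ (List.mem_map.mpr ⟨M.co (j1 * j), hL _ (mul_mem hj1 hj) ?_, ?_⟩)
      · refine (mul_inv_eq_iff_eq_mul.mp ?_).symm
        calc e * (j1 * j) * e⁻¹ = e * j1 * e⁻¹ * (e * j * e⁻¹) := by group
          _ = j1 * (S.z * j) * S.z := by rw [hc1, hc]; group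
          _ = j1 * j := by rw [← (S.Jz j hj).eq, mul_assoc, mul_assoc j, S.zz, mul_one]
      · rw [M.co_mul _ hj1 _ hj, ← Nat.xor_assoc, Nat.xor_self, Nat.zero_xor]
  have := ((fixL_nodup _).subperm hsub).length_le
  rw [List.length_append, List.length_map] at this
  omega

/-- The lift of a code commuting with the standard involution of the first class. -/
theorem lift_one {e : G} (he : S.InW e) (hT : M.ρ e = T1) :
    ∃ R, S.InW R ∧ e⁻¹ * (R⁻¹ * e * R) ∈ S.J ∧ (both (M.ρ e) (M.ρ R)).length = 1 := by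
  obtain ⟨R, hR, eR⟩ := M.ρ_surj _ (U6Rec.inU_elt (p := (1, 1)) (show 1 < 135 by norm_num) (show 1 < 192 by norm_num))
  have hi : S.InW (R⁻¹ * e * R) := S.InW_mul (S.InW_mul (S.InW_inv hR) he) hR
  refine ⟨R, hR, (M.ρ_J _ (S.InW_mul (S.InW_inv he) hi)).mp ?_, by rw [hT, eR]; exact fix_sizes.2.2.2.1⟩
  have hc : M.ρ (R⁻¹ * e * R) = M.ρ e := by
    rw [M.ρ_mul _ _ (S.InW_mul (S.InW_inv hR) he) hR, M.ρ_mul _ _ (S.InW_inv hR) he, hT, U6Rec.comp_assoc, eR,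
      ← fix_sizes.2.2.1, ← eR, ← U6Rec.comp_assoc, (M.ρ_inv hR).1, ← hT, ← M.ρ_one,
      ← M.ρ_mul _ _ (S.InW_J (one_mem _)) he, one_mul]
  rw [M.ρ_mul _ _ (S.InW_inv he) hi, hc]
  exact (M.ρ_inv he).1

/-- Lifts of squares commuting with an involution of the second class. -/
theorem lift_two {e : G} (he : S.InW e) (he2 : e * e = 1) (hT : M.ρ e = T2) {u : ℕ} (hu : InU u)
    (hc : comp u T2 = comp T2 u) : ∃ Q, S.InW Q ∧ M.ρ Q = comp u u ∧ Commute Q e := by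
  obtain ⟨R, hR, eR⟩ := M.ρ_surj u hu
  have hei : e⁻¹ = e := inv_eq_of_mul_eq_one_right he2
  have hR' : S.InW (R * e * R⁻¹) := S.InW_conj he (S.InW_comm hR)
  have eR' : M.ρ (R * e * R⁻¹) = M.ρ e := by
    rw [M.ρ_mul _ _ (S.InW_mul hR he) (S.InW_inv hR), M.ρ_mul _ _ hR he, eR, hT, hc, U6Rec.comp_assoc, ← eR,
      (M.ρ_inv hR).2, ← hT, ← M.ρ_one, ← M.ρ_mul _ _ he (S.InW_J (one_mem _)), mul_one]
  set j := e * (R * e * R⁻¹) with hj
  have eR2 : R * e * R⁻¹ = e * j := by rw [hj, ← mul_assoc e e, he2, one_mul]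
  have hjJ : j ∈ S.J := (M.ρ_J _ (S.InW_mul he hR')).mp (by
    rw [M.ρ_mul _ _ he hR', eR', ← M.ρ_mul _ _ he he, he2, M.ρ_one])
  have hej : e * j * e⁻¹ = j⁻¹ := by
    have h2 : (e * j) * (e * j) = 1 := by
      rw [← eR2, show R * e * R⁻¹ * (R * e * R⁻¹) = R * (e * e) * R⁻¹ by group, he2]; group
    rw [hei]; exact eq_inv_of_mul_eq_one_left (by rw [← h2]; group)
  have hd : M.co j ∈ dispL (M.ρ e) := by
    have hjf : M.co j ∈ fixL (M.ρ e) := mem_fixL.mpr ⟨M.co_lt j hjJ, by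
      rw [← M.conj_code he hjJ, hej, M.co_inv hjJ]⟩
    rw [hT] at hjf ⊢
    exact List.mem_of_elem_eq_true (List.all_eq_true.mp FiTwoType.ten_fix.2 _ hjf)
  obtain ⟨k, hk, ek⟩ : ∃ k ∈ S.J, M.co (e * k * e⁻¹ * k⁻¹) = M.co j := by
    obtain ⟨w, hw, ew⟩ := FiTwoType.mem_dispL.mp hd
    obtain ⟨k, hk, rfl⟩ := M.co_surj w hw
    exact ⟨k, hk, by
      rw [M.co_mul _ (S.conjJ e (S.InW_comm he) k hk) _ (inv_mem hk), M.co_inv hk, M.conj_code he hk, ew]⟩
  have hkJ : e * k * e⁻¹ * k⁻¹ ∈ S.J := mul_mem (S.conjJ e (S.InW_comm he) k hk) (inv_mem hk)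
  have hζ := M.co_eq hjJ hkJ ek.symm
  set ζ := (e * k * e⁻¹ * k⁻¹)⁻¹ * j with hζd
  have hki := S.InW_inv (S.InW_J hk)
  set R1 := k⁻¹ * R with hR1
  have hR1' : S.InW R1 := S.InW_mul hki hR
  have eR1 : R1 * e * R1⁻¹ = e * ζ := by
    calc R1 * e * R1⁻¹ = k⁻¹ * (R * e * R⁻¹) * k := by rw [hR1]; group
      _ = k⁻¹ * (e * (e * k * e⁻¹ * k⁻¹ * ζ)) * k := by rw [eR2, hζd]; group
      _ = k⁻¹ * ((e * e) * k * e⁻¹ * k⁻¹ * ζ) * k := by group
      _ = e⁻¹ * (k⁻¹ * ζ * k) := by rw [he2]; group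
      _ = e * ζ := by rw [hei, mul_assoc k⁻¹, (S.Cen_comm hζ hk).eq, inv_mul_cancel_left]
  refine ⟨R1 * R1, S.InW_mul hR1' hR1', ?_, mul_inv_eq_iff_eq_mul.mp ?_⟩
  · rw [M.ρ_mul _ _ hR1' hR1', hR1, M.ρ_mul _ _ hki hR, eR, (M.ρ_J _ hki).mpr (inv_mem hk)]
    have h1 : comp one u = u := by rw [← M.ρ_one, ← eR, ← M.ρ_mul _ _ (S.InW_J (one_mem _)) hR, one_mul]
    rw [h1]
  · calc R1 * R1 * e * (R1 * R1)⁻¹ = R1 * (R1 * e * R1⁻¹) * R1⁻¹ := by group
      _ = R1 * e * R1⁻¹ * (R1 * ζ * R1⁻¹) := by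
        conv_lhs => rw [eR1]
        group
      _ = e * (ζ * ζ) := by rw [eR1, (S.InW_Cen hR1' hζ).eq, mul_inv_cancel_right]; group
      _ = e := by rw [S.Cen_sq hζ, mul_one]

/-- The fixed codes of an involution of the second class lift to fixed elements. -/
theorem full_two {e : G} (he : S.InW e) (he2 : e * e = 1) (hT : M.ρ e = T2) {v : ℕ} (hv : v ∈ fixL T2) :
    ∃ j ∈ S.J, Commute j e ∧ M.co j = v := by
  obtain ⟨Q, hQ, eQ, hQe⟩ := M.lift_two he he2 hT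
    (U6Rec.inU_elt (p := (1, 6)) (show 1 < 135 by norm_num) (show 6 < 192 by norm_num)) fix_sizes.2.2.2.2.1
  have hi : e⁻¹ * (Q⁻¹ * e * Q) ∈ S.J := by
    rw [mul_assoc Q⁻¹, ← hQe.eq, inv_mul_cancel_left, inv_mul_cancel]; exact one_mem _
  obtain ⟨j, hj, ej, ε, -, hε, hc⟩ := M.lift_fix he hQ hi (by rw [hT, eQ]; exact fix_sizes.2.2.2.2.2) (hT.symm ▸ hv)
  rw [hε hQe, mul_one] at hc
  exact ⟨j, hj, (mul_inv_eq_iff_eq_mul.mp hc).symm, ej⟩

/-- Codes fixed by the centraliser in the core: their number, or lifts. -/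
theorem count {e : G} (he : S.InW e) (he2 : e * e = 1) (heJ : e ∉ S.J) (L : List ℕ)
    (hL : ∀ j ∈ S.J, Commute j e → M.co j ∈ L) : 32 ≤ L.length ∨
      ((fixL (M.ρ e)).length = 16 ∧ ∀ v ∈ fixL (M.ρ e), ∃ j ∈ S.J, Commute j e ∧ M.co j = v) := by
  obtain ⟨h, hh, hT⟩ := M.cls e he he2 heJ
  have hz := S.InW_comm hh
  have he' : S.InW (h * e * h⁻¹) := S.InW_conj he hz
  have e2' : h * e * h⁻¹ * (h * e * h⁻¹) = 1 := by
    rw [show h * e * h⁻¹ * (h * e * h⁻¹) = h * (e * e) * h⁻¹ by group, he2]; group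
  have back : ∀ j ∈ S.J, h⁻¹ * j * h ∈ S.J ∧ M.co j = app (M.ρ h) (M.co (h⁻¹ * j * h)) := fun j hj => by
    have hj' : h⁻¹ * j * h ∈ S.J := by simpa using S.conjJ _ hz.inv_left j hj
    refine ⟨hj', ?_⟩
    rw [← M.conj_code hh hj']
    congr 1; group
  have pull : ∀ j, Commute j (h * e * h⁻¹) → Commute (h⁻¹ * j * h) e := fun j hj => by
    have := hj.map (MulAut.conj h⁻¹).toMonoidHom
    simpa [mul_assoc] using this
  have eρ : comp (M.ρ h) (M.ρ e) = comp (M.ρ (h * e * h⁻¹)) (M.ρ h) := by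
    rw [← M.ρ_mul _ _ hh he, ← M.ρ_mul _ _ he' hh]
    congr 1; group
  rcases hT with hT | hT
  · left
    obtain ⟨R, hR, hi, hr⟩ := M.lift_one he' hT
    have := M.cover he' hR hi hr (L.map (app (M.ρ h))) fun j hj hje => by
      obtain ⟨hj', ej⟩ := back j hj
      rw [ej]
      exact List.mem_map.mpr ⟨_, hL _ hj' (pull j hje), rfl⟩
    rw [hT, fix_sizes.1, List.length_map] at this
    omega
  · right
    have tr : ∀ v, v ∈ fixL (M.ρ e) → app (M.ρ h) v ∈ fixL T2 := fun v hv => by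
      obtain ⟨hv1, hv2⟩ := mem_fixL.mp hv
      refine mem_fixL.mpr ⟨U6Rec.app_lt _ _, ?_⟩
      rw [← hT, ← U6Rec.app_comp, ← eρ, U6Rec.app_comp, hv2]
    have lifts : ∀ v ∈ fixL (M.ρ e), ∃ j ∈ S.J, Commute j e ∧ M.co j = v := fun v hv => by
      obtain ⟨j, hj, hje, ej⟩ := M.full_two he' e2' hT (tr v hv)
      obtain ⟨hj', ej'⟩ := back j hj
      refine ⟨_, hj', pull j hje, ?_⟩
      have h1 := congrArg (app (M.ρ h⁻¹)) (ej'.symm.trans ej)
      rwa [← U6Rec.app_comp, (M.ρ_inv hh).1, U6Rec.app_one _ (M.co_lt _ hj'), ← U6Rec.app_comp, (M.ρ_inv hh).1,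
        U6Rec.app_one _ (mem_fixL.mp hv).1] at h1
    refine ⟨le_antisymm ?_ ?_, lifts⟩
    · have hnd : ((fixL (M.ρ e)).map (app (M.ρ h))).Nodup := by
        refine (fixL_nodup _).map_on fun a ha b hb hab => ?_
        have h1 := congrArg (app (M.ρ h⁻¹)) hab
        rwa [← U6Rec.app_comp, (M.ρ_inv hh).1, U6Rec.app_one _ (mem_fixL.mp ha).1, ← U6Rec.app_comp, (M.ρ_inv hh).1,
          U6Rec.app_one _ (mem_fixL.mp hb).1] at h1
      have := (hnd.subperm fun v hv => by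
        obtain ⟨w, hw, rfl⟩ := List.mem_map.mp hv
        exact tr w hw).length_le
      rwa [List.length_map, fix_sizes.2.1] at this
    · have hsub : ∀ v ∈ fixL T2, v ∈ (fixL (M.ρ e)).map (app (M.ρ h)) := fun v hv => by
        obtain ⟨j, hj, hje, ej⟩ := M.full_two he' e2' hT hv
        obtain ⟨hj', ej'⟩ := back j hj
        exact List.mem_map.mpr ⟨_, M.code_fix he hj' (pull j hje), ej'.symm.trans ej⟩
      have := ((fixL_nodup _).subperm hsub).length_le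
      rwa [List.length_map, fix_sizes.2.1] at this

end Coord

end Setup

end CfsgLib.FiThreeType
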