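/-
Inside the subgroup of index two a conjugate commuting with the involution comes from a good element.
-/
import Cfsg.Agent.Lib.FiThreeType.Lifts

set_option autoImplicit false
set_option maxRecDepth 100000
set_option linter.unusedVariables false
set_option linter.unusedSectionVars false
set_option linter.style.haveILetI false

namespace CfsgLib.FiThreeType

open FiTwoType (T1 T2 fixL dispL c2L mem_fixL fixL_nodup)
open U6Rec (app comp InU one elt rep)

attribute [local irreducible] U6Rec.comp U6Rec.app T1 T2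

namespace Setup

variable {G : Type*} [Group G] [Finite G] {X : Type*} [Group X] {S : Setup G X}

/-- The pulled four-group. -/
def xv (g v : G) : G := g⁻¹ * v * g

theorem xv_sq (hv : ∀ w ∈ S.W, w * w = 1) {g v : G} (h : v ∈ S.W) : xv g v * xv g v = 1 := by
  rw [xv, show g⁻¹ * v * g * (g⁻¹ * v * g) = g⁻¹ * (v * v) * g by group, hv v h]; group

theorem xv_mul (g u v : G) : xv g u * xv g v = xv g (u * v) := by simp only [xv]; group

variable (S)

/-- With all pulled involutions of the four-group in the core the element is good. -/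
theorem good_all (hIz : ∀ v ∈ S.W, v ≠ 1 → S.IsoAt (S.z * v))
    (hcase : (∀ v ∈ S.W, v ≠ 1 → S.IsoAt v) ∨ ∀ v ∈ S.W, v ≠ 1 → ∀ k, Commute k v → k ∈ S.M)
    {g : G} (hy : Commute (g * S.z * g⁻¹) S.z) (hyW : ∀ v ∈ S.W, Commute v (g * S.z * g⁻¹))
    (hz'J : g⁻¹ * S.z * g ∉ S.J) (hX : ∀ v ∈ S.W, xv g v ∈ S.J) : S.Good g ∨ g * S.z * g⁻¹ = S.z := by
  obtain ⟨w, hw, w1⟩ := S.exists_W
  have back : ∀ {j v}, Commute j (xv g v) → Commute (g * j * g⁻¹) v := fun {j v} h => by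
    have := h.map (MulAut.conj g).toMonoidHom
    simpa [xv, mul_assoc] using this
  have cent : ∀ {v}, v ∈ S.W → v ≠ 1 → xv g v ∈ S.Cen → S.Good g ∨ g * S.z * g⁻¹ = S.z := by
    intro v hv v1 h
    rcases h with e | e
    · exact Or.inl (S.good_of_mem hv v1 e)
    · right
      have xz : Commute (xv g v) S.z := S.pull (hyW v hv)
      refine S.no_cross hIz hy hv e (fun h => ?_) ?_
      · have h' : xv g v = S.z := (mul_eq_one_iff_eq_inv.mp h).trans S.z_inv
        exact S.not_conj hv v1 (Or.inl rfl) (show g * S.z * g⁻¹ = v by rw [← h', xv]; group)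
      · rw [show S.z * (xv g v * S.z) = xv g v by rw [xz.eq, ← mul_assoc, S.zz, one_mul], xv]
        group
  rcases hcase with hI | hM
  · refine absurd (S.half_mem (hX w hw) (S.pull_z hy) ?_ fun j hj hjx => ?_) hz'J
    · rw [show g⁻¹ * S.z * g * (g⁻¹ * S.z * g) = g⁻¹ * (S.z * S.z) * g by group, S.zz]; group
    · exact S.le (hI w hw w1) (S.Wsq w hw) (S.Wz hw) hy (hyW w hw) (S.Jz j hj) hjx
  set y := S.nx w
  have hy' : y ∈ S.W := S.nx_mem hw
  have y1 : y ≠ 1 := ne_one_conj w1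
  set x1 := xv g w
  set x2 := xv g y
  by_cases h1 : x1 ∈ S.Cen
  · exact cent hw w1 h1
  have hnc : ∃ j ∈ S.J, ¬ Commute j x1 := by
    by_contra hno
    push Not at hno
    exact h1 (S.centre x1 (hX w hw) fun j hj => (hno j hj).symm)
  rcases S.cc (hX w hw) (hX y hy') hnc (fun j hj hjx => by
    by_contra hn
    have e := (S.comm2 j hj _ (hX y hy')).resolve_left fun h => hn h.symm
    have hv := S.mem_M.mp (hM w hw w1 _ (back hjx)) y hy'
    refine S.not_conj (mul_mem hv hy') (fun h => ?_) (Or.inl rfl) (?_ : g * S.z * g⁻¹ = g * j * g⁻¹ * y * (g * j * g⁻¹)⁻¹ * y)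
    · have h2 : g * S.z * g⁻¹ = g * j * g⁻¹ * y * (g * j * g⁻¹)⁻¹ * y := by
        have hxx := xv_sq S.Wsq (g := g) hy'
        calc g * S.z * g⁻¹ = g * (S.z * (x2 * j) * j⁻¹ * x2) * g⁻¹ := by
              rw [mul_assoc S.z, mul_assoc S.z, show x2 * j * j⁻¹ * x2 = x2 * x2 by group, hxx, mul_one]
          _ = g * (j * x2 * j⁻¹ * x2) * g⁻¹ := by rw [e]
          _ = _ := by simp only [x2, xv]; group
      exact S.z1 (conj_eq_one_iff.mp (h2.trans h))
    · have hxx := xv_sq S.Wsq (g := g) hy'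
      calc g * S.z * g⁻¹ = g * (S.z * (x2 * j) * j⁻¹ * x2) * g⁻¹ := by
            rw [mul_assoc S.z, mul_assoc S.z, show x2 * j * j⁻¹ * x2 = x2 * x2 by group, hxx, mul_one]
        _ = g * (j * x2 * j⁻¹ * x2) * g⁻¹ := by rw [e]
        _ = _ := by simp only [x2, xv]; group) with e | e
  · exact cent hy' y1 e
  · rw [xv_mul] at e
    exact cent (mul_mem hy' hw) (fun h => S.nx_ne hw w1 ((mul_eq_one_iff_eq_inv.mp h).trans (S.W_inv hw))) e

variable {S}

/-- With the pulled involution a standard one. -/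
theorem Coord.fusion_std (M : S.Coord id) (hIz : ∀ v ∈ S.W, v ≠ 1 → S.IsoAt (S.z * v))
    (hcase : (∀ v ∈ S.W, v ≠ 1 → S.IsoAt v) ∨ ∀ v ∈ S.W, v ≠ 1 → ∀ k, Commute k v → k ∈ S.M)
    {G1 : Subgroup G} [G1.Normal] (hG1 : ∀ h, Commute h S.z → (h ∈ G1 ↔ S.In h)) {g : G} (hg : g ∈ G1)
    (hy : Commute (g * S.z * g⁻¹) S.z) (hyW : ∀ v ∈ S.W, Commute v (g * S.z * g⁻¹))
    (hz' : S.InW (g⁻¹ * S.z * g)) (hT : M.ρ (g⁻¹ * S.z * g) = T1 ∨ M.ρ (g⁻¹ * S.z * g) = T2)
    (hz'J : g⁻¹ * S.z * g ∉ S.J) : S.Good g ∨ g * S.z * g⁻¹ = S.z := by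
  classical
  set e := g⁻¹ * S.z * g with he
  have he2 : e * e = 1 := by
    rw [he, show g⁻¹ * S.z * g * (g⁻¹ * S.z * g) = g⁻¹ * (S.z * S.z) * g by group, S.zz]; group
  have InG : ∀ {h}, S.In h → h ∈ G1 := fun {h} hh => (hG1 h (S.In_comm hh)).mpr hh
  have WG : ∀ v ∈ S.W, v ∈ G1 := fun v hv => InG (S.In_J (S.WJ hv))
  have gconj : ∀ {k}, k ∈ G1 → g * k * g⁻¹ ∈ G1 := fun hk => (inferInstance : G1.Normal).conj_mem _ hk g
  -- the pulled four-group
  have hx : ∀ v ∈ S.W, S.InW (xv g v) := fun v hv => by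
    have xz : Commute (xv g v) S.z := S.pull (hyW v hv)
    have xIn : S.In (xv g v) := (hG1 _ xz).mp (by
      simpa [xv] using (inferInstance : G1.Normal).conj_mem v (WG v hv) g⁻¹)
    obtain ⟨w, hw, w1, hf⟩ := S.exists_fix xz (xv_sq S.Wsq hv)
    exact S.InW_of xIn hw w1 hf
  have xe : ∀ v ∈ S.W, Commute (xv g v) e := fun v hv => by
    have := (S.Wz hv).map (MulAut.conj g⁻¹).toMonoidHom
    simpa [he, xv, mul_assoc] using this
  have perm : ∀ {Q}, S.InW Q → Commute Q e → ∀ v ∈ S.W, ∃ v' ∈ S.W, Q * xv g v * Q⁻¹ = xv g v' := by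
    intro Q hQ hQe v hv
    have kz := S.push (g := g) hQe
    exact ⟨_, S.conjW _ kz v hv, by simp only [xv]; group⟩
  have Jfix : ∀ j ∈ S.J, Commute j e → ∀ v ∈ S.W, Commute j (xv g v) := by
    intro j hj hje v hv
    have kz := S.push (g := g) hje
    have kIn : S.In (g * j * g⁻¹) := (hG1 _ kz).mp (gconj (InG (S.In_J hj)))
    let C := S.J ⊓ Subgroup.centralizer ({e} : Set G)
    obtain ⟨w, hw, w1, hf⟩ := S.two_fix (K := C.map (MulAut.conj g).toMonoidHom)
      ((S.isPGroup_J.to_le inf_le_left).map _) (by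
        rintro _ ⟨i, hi, rfl⟩
        exact S.push (Subgroup.mem_centralizer_singleton_iff.mp hi.2))
    have h1 := S.In_fix kIn hw w1 (hf _ ⟨j, ⟨hj, Subgroup.mem_centralizer_singleton_iff.mpr hje⟩, rfl⟩) v hv
    have := h1.map (MulAut.conj g⁻¹).toMonoidHom
    simpa [xv, mul_assoc] using this
  have ple : ∀ v ∈ S.W, v ≠ 1 → ∀ j ∈ S.J, Commute j (e * xv g v) → Commute j e := by
    intro v hv v1 j hj hjp
    have h1 : Commute j (g⁻¹ * (S.z * v) * g) := by
      rw [show g⁻¹ * (S.z * v) * g = e * xv g v by rw [he, xv]; group]; exact hjp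
    exact S.le (hIz v hv v1) (by rw [(S.Wz hv).mul_mul_mul_comm, S.zz, S.Wsq v hv, mul_one])
      ((Commute.refl S.z).mul_left (S.Wz hv)) hy (hy.symm.mul_left (hyW v hv)) (S.Jz j hj) h1
  have pJ : ∀ v ∈ S.W, e * xv g v ∉ S.J := by
    intro v hv hp
    by_cases v1 : v = 1
    · rw [v1, show e * xv g (1 : G) = e by simp [xv]] at hp; exact hz'J hp
    · exact hz'J (S.half_mem hp (S.InW_comm hz') he2 (ple v hv v1))
  have pInW : ∀ v ∈ S.W, S.InW (e * xv g v) := fun v hv => S.InW_mul hz' (hx v hv)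
  have p2 : ∀ v ∈ S.W, e * xv g v * (e * xv g v) = 1 := fun v hv => by
    rw [(xe v hv).mul_mul_mul_comm, he2, xv_sq S.Wsq hv, mul_one]
  have ρp : ∀ v ∈ S.W, M.ρ (e * xv g v) = comp (M.ρ e) (M.ρ (xv g v)) := fun v hv => M.ρ_mul _ _ hz' (hx v hv)
  refine S.good_all hIz hcase hy hyW hz'J ?_
  rcases hT with hT | hT
  · -- a transvection
    intro v hv
    set a := M.ρ (xv g v) with ha
    have haU := M.ρ_mem _ (hx v hv)
    have hac : comp a T1 = comp T1 a := by rw [← hT]; exact M.comm_ρ (hx v hv) hz' (xe v hv)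
    have ha2 : comp a a = one := by rw [ha, ← M.ρ_mul _ _ (hx v hv) (hx v hv), xv_sq S.Wsq hv, M.ρ_one]
    have haT : a ≠ T1 := fun h => pJ v hv ((M.ρ_J _ (pInW v hv)).mp (by
      rw [ρp v hv, ← ha, h, hT, FiTwoType.T_basic.2.1]))
    have hd : app a 1 ∈ dispL T1 := by
      obtain ⟨m, hm, em⟩ := FiTwoType.mem_dispL.mp (List.mem_of_elem_eq_true (show (dispL T1).elem 1 = true from
        FiTwoType.T1_disp))
      refine FiTwoType.mem_dispL.mpr ⟨app a m, U6Rec.app_lt _ _, ?_⟩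
      rw [← em, ← U6Rec.app_comp, ← hac, U6Rec.app_comp, U6Rec.app_add]
    obtain ⟨i, j, hi, hj, ea⟩ := haU
    have hi3 : i < 3 := by
      have := List.all_eq_true.mp t1_lines i (List.mem_range.mpr hi)
      simp only [Bool.or_eq_true, Bool.not_eq_true', ← Bool.not_eq_true] at this
      rcases this with h | h
      · exact absurd (List.elem_eq_true_of_mem (by rw [← U6Rec.elt_app hj, ← ea]; exact hd)) h
      · exact Nat.ble_eq.mp h
    have hs := List.all_eq_true.mp (List.all_eq_true.mp t1_small i (List.mem_range.mpr hi3)) j (List.mem_range.mpr hj)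
    simp only [Bool.or_eq_true, Bool.not_eq_true', ← Bool.not_eq_true, Nat.beq_eq] at hs
    rw [← ha] at ea
    rw [← ea] at hs
    rcases hs with (((h | h) | h) | h) | h
    · exact absurd hac h
    · exact absurd ha2 h
    · exact (M.ρ_J _ (hx v hv)).mp h
    · exact absurd h haT
    · exfalso
      obtain ⟨R, hR, hRi, hRr⟩ := M.lift_one hz' hT
      have hcov := M.cover hz' hR hRi hRr (both T1 a) fun k hk hke => mem_both.mpr
        ⟨hT ▸ M.code_fix hz' hk hke, (mem_fixL.mp (M.code_fix (hx v hv) hk (Jfix k hk hke v hv))).2⟩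
      rw [hT, fix_sizes.1] at hcov
      have := Nat.le_of_ble_eq_true h
      omega
  · -- the other class
    have cand : ∀ v ∈ S.W, M.ρ (xv g v) ∈ candL := by
      intro v hv
      set a := M.ρ (xv g v) with ha
      have hac : comp a T2 = comp T2 a := by rw [← hT]; exact M.comm_ρ (hx v hv) hz' (xe v hv)
      refine List.mem_filter.mpr ⟨FiTwoType.Model.c2_mem (M.ρ_mem _ (hx v hv)) hac, ?_⟩
      simp only [Bool.or_eq_true, Bool.and_eq_true, Bool.not_eq_true', ← Bool.not_eq_true, Nat.beq_eq,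
        List.all_eq_true]
      by_cases h1 : a = one
      · exact Or.inl h1
      have v1 : v ≠ 1 := fun h => h1 (by
        rw [ha, h, show xv g (1 : G) = 1 by simp [xv], M.ρ_one])
      have ha2 : comp a a = one := by rw [ha, ← M.ρ_mul _ _ (hx v hv) (hx v hv), xv_sq S.Wsq hv, M.ρ_one]
      have haT : a ≠ T2 := fun h => pJ v hv ((M.ρ_J _ (pInW v hv)).mp (by
        rw [ρp v hv, ← ha, h, hT, FiTwoType.T_basic.2.2.1]))
      have hfix : ∀ m ∈ fixL T2, app a m = m := fun m hm => by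
        obtain ⟨k, hk, hke, ek⟩ := M.full_two hz' he2 hT hm
        rw [← ek]
        exact (mem_fixL.mp (M.code_fix (hx v hv) hk (Jfix k hk hke v hv))).2
      refine Or.inr ⟨⟨⟨ha2, haT⟩, hfix⟩, ?_⟩
      have hcnt := M.count (pInW v hv) (p2 v hv) (pJ v hv) (fixL T2) fun k hk hkp =>
        hT ▸ M.code_fix hz' hk (ple v hv v1 k hk hkp)
      rw [fix_sizes.2.1] at hcnt
      rcases hcnt with h | h
      · omega
      · rw [← hT, ← ρp v hv]; exact h.1
    by_contra hno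
    push Not at hno
    obtain ⟨u, hu, hun⟩ := hno
    have u1 : u ≠ 1 := fun h => hun (by rw [h, show xv g (1 : G) = 1 by simp [xv]]; exact one_mem _)
    set y := S.nx u
    have hy' : y ∈ S.W := S.nx_mem hu
    have hab : comp (M.ρ (xv g u)) (M.ρ (xv g y)) = M.ρ (xv g (u * y)) := by
      rw [← M.ρ_mul _ _ (hx u hu) (hx y hy'), xv_mul]
    have h := List.all_eq_true.mp (List.all_eq_true.mp t2_planes _ (cand u hu)) _ (cand y hy')
    simp only [Bool.or_eq_true, Bool.and_eq_true, Bool.not_eq_true', ← Bool.not_eq_true, Nat.beq_eq,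
      List.any_eq_true, List.all_eq_true] at h
    rcases h with (h | h) | ⟨s, hs, t, ht, h⟩
    · exact h (List.elem_eq_true_of_mem (hab ▸ cand _ (mul_mem hu hy')))
    · exact hun ((M.ρ_J _ (hx u hu)).mp h.1)
    · obtain ⟨sU, sc⟩ := FiTwoType.Model.c2_inU hs
      obtain ⟨Q, hQ, eQ, hQe⟩ := M.lift_two hz' he2 hT sU sc
      have key : ∀ v ∈ S.W, t = M.ρ (xv g v) → False := by
        intro v hv et
        obtain ⟨v', hv', e'⟩ := perm hQ hQe v hv
        have h2 : comp (comp s s) t = comp (M.ρ (xv g v')) (comp s s) := by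
          rw [et, ← eQ, ← M.ρ_mul _ _ hQ (hx v hv), ← M.ρ_mul _ _ (hx v' hv') hQ, ← e']
          congr 1; group
        refine h (M.ρ (xv g v')) ?_ h2
        rcases S.W_eq hu u1 hv' with rfl | rfl | rfl | rfl
        · rw [show xv g (1 : G) = 1 by simp [xv], M.ρ_one]; simp
        · simp
        · simp [y]
        · rw [← hab]; simp
      simp only [List.mem_cons, List.not_mem_nil, or_false] at ht
      rcases ht with rfl | rfl
      · exact key u hu rfl
      · exact key y hy' rfl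

/-- The fusion inside the subgroup of index two. -/
theorem Coord.fusion (M : S.Coord id) (hIz : ∀ v ∈ S.W, v ≠ 1 → S.IsoAt (S.z * v))
    (hcase : (∀ v ∈ S.W, v ≠ 1 → S.IsoAt v) ∨ ∀ v ∈ S.W, v ≠ 1 → ∀ k, Commute k v → k ∈ S.M)
    {G1 : Subgroup G} [G1.Normal] (hG1 : ∀ h, Commute h S.z → (h ∈ G1 ↔ S.In h)) {g : G} (hg : g ∈ G1)
    (hy : Commute (g * S.z * g⁻¹) S.z) : S.Good g ∨ g * S.z * g⁻¹ = S.z := by
  classical
  by_cases hJ : g⁻¹ * S.z * g ∈ S.J
  · exact Or.inl (S.good_of_J hIz hy hJ)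
  have zG : S.z ∈ G1 := (hG1 _ (Commute.refl _)).mpr (S.In_J S.zJ)
  have inv : ∀ {k}, Commute k S.z → k * k = 1 → k ∈ G1 → S.InW k := fun {k} kz k2 kG => by
    obtain ⟨w, hw, w1, hf⟩ := S.exists_fix kz k2
    exact S.InW_of ((hG1 k kz).mp kG) hw w1 hf
  have hy1 : S.InW (g * S.z * g⁻¹) := inv hy (by
    rw [show g * S.z * g⁻¹ * (g * S.z * g⁻¹) = g * (S.z * S.z) * g⁻¹ by group, S.zz]; group)
    ((inferInstance : G1.Normal).conj_mem _ zG g)
  have hz2 : g⁻¹ * S.z * g * (g⁻¹ * S.z * g) = 1 := by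
    rw [show g⁻¹ * S.z * g * (g⁻¹ * S.z * g) = g⁻¹ * (S.z * S.z) * g by group, S.zz]; group
  have hz' : S.InW (g⁻¹ * S.z * g) := inv (S.pull_z hy) hz2 (by
    simpa using (inferInstance : G1.Normal).conj_mem _ zG g⁻¹)
  obtain ⟨h, hh, hT⟩ := M.cls _ hz' hz2 hJ
  have hz := S.InW_comm hh
  have e1 : g * h⁻¹ * S.z * (g * h⁻¹)⁻¹ = g * S.z * g⁻¹ := by
    rw [show g * h⁻¹ * S.z * (g * h⁻¹)⁻¹ = g * (h⁻¹ * S.z * h) * g⁻¹ by group,
      show h⁻¹ * S.z * h = S.z by rw [mul_assoc, ← hz.eq, inv_mul_cancel_left]]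
  have e2 : (g * h⁻¹)⁻¹ * S.z * (g * h⁻¹) = h * (g⁻¹ * S.z * g) * h⁻¹ := by group
  have nJ : (g * h⁻¹)⁻¹ * S.z * (g * h⁻¹) ∉ S.J := by
    rw [e2]; intro h'
    refine hJ ?_
    simpa [mul_assoc] using S.conjJ _ hz.inv_left _ h'
  rcases M.fusion_std hIz hcase hG1 (mul_mem hg (inv_mem ((hG1 h hz).mpr hh.1))) (by rw [e1]; exact hy)
    (fun v hv => by rw [e1]; exact (hy1.2 v hv).symm) (by rw [e2]; exact S.InW_conj hz' hz) (by rw [e2]; exact hT) nJ
    with ⟨w, hw, w1, k, hk, hkw⟩ | e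
  · exact Or.inl ⟨w, hw, w1, h⁻¹ * k, hz.inv_left.mul_left hk, by rw [← mul_assoc]; exact hkw⟩
  · exact Or.inr (e1 ▸ e)

end Setup

end CfsgLib.FiThreeType
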