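/-
Either the involution is isolated in the group or the four-group is normal.
-/
import Cfsg.Agent.Lib.FiThreeType.Fusion
import Cfsg.Agent.Lib.U6Chz.Setup

set_option autoImplicit false
set_option maxRecDepth 100000
set_option linter.unusedVariables false
set_option linter.unusedSectionVars false
set_option linter.style.haveILetI false

namespace CfsgLib.FiThreeType

namespace Setup

variable {G : Type*} [Group G] [Finite G] {X : Type*} [Group X] (S : Setup G X)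
variable {F : Type*} [Field F] [Fintype F]

/-- Conjugates commuting with the involution. -/
theorem commuting (hF : Fintype.card F = 3) (eN : Cfsg.PSp 2 F ≃* ↥S.N)
    (hIz : ∀ v ∈ S.W, v ≠ 1 → S.IsoAt (S.z * v))
    (hcase : (∀ v ∈ S.W, v ≠ 1 → S.IsoAt v) ∨ ∀ v ∈ S.W, v ≠ 1 → ∀ k, Commute k v → k ∈ S.M) {g : G}
    (hy : Commute (g * S.z * g⁻¹) S.z) :
    g * S.z * g⁻¹ = S.z ∨ ((∀ v ∈ S.W, v ≠ 1 → ∀ k, Commute k v → k ∈ S.M) ∧ g ∈ S.M) := by
  obtain ⟨G1, hi, hG1⟩ := S.extend_N hIz hcase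
  haveI : G1.Normal := Subgroup.normal_of_index_eq_two hi
  obtain ⟨M⟩ := S.natural hF eN
  obtain ⟨g1, hg1, t, tz, eg⟩ : ∃ g1 ∈ G1, ∃ t, Commute t S.z ∧ g = g1 * t := by
    by_cases h : g ∈ G1
    · exact ⟨g, h, 1, Commute.one_left _, (mul_one g).symm⟩
    · obtain ⟨t, tz, tn⟩ := S.exists_outer
      have tG : t ∉ G1 := fun h' => tn ((hG1 t tz).mp h')
      exact ⟨g * t⁻¹, (Subgroup.mul_mem_iff_of_index_two hi).mpr (iff_of_false h fun h' => tG (inv_mem_iff.mp h')),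
        t, tz, (inv_mul_cancel_right g t).symm⟩
  have e1 : g * S.z * g⁻¹ = g1 * S.z * g1⁻¹ := by
    rw [eg, show g1 * t * S.z * (g1 * t)⁻¹ = g1 * (t * S.z * t⁻¹) * g1⁻¹ by group, tz.eq, mul_inv_cancel_right]
  rw [e1] at hy
  rcases M.fusion hIz hcase hG1 hg1 hy with h | h
  · rcases hcase with hI | hM
    · exact Or.inl (e1.trans (S.good_iso hy hI h))
    · exact Or.inr ⟨hM, eg ▸ mul_mem (S.good_norm hM h) (S.C_le_M tz)⟩
  · exact Or.inl (e1.trans h)

theorem zw_comm {u : G} (hu : u ∈ S.W) : Commute S.z u := (S.Wz hu).symm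

/-- An involution centralising an involution of the four-group is conjugate there into the centraliser. -/
theorem into_C {w k : G} (hw : w ∈ S.W) (w1 : w ≠ 1) (hk : Commute k w) (k2 : k * k = 1) :
    ∃ n, Commute n w ∧ Commute (n * k * n⁻¹) S.z := by
  classical
  haveI : Fact (Nat.Prime 2) := ⟨Nat.prime_two⟩
  set P := S.glob w hw w1 w (Or.inl rfl)
  obtain ⟨T, -, -, hTz, hodd⟩ := P.base.exists_sylow
  let kL : ↥P.L := ⟨k, Subgroup.mem_centralizer_singleton_iff.mpr hk⟩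
  let R := Subgroup.zpowers (QuotientGroup.mk kL : P.Q)
  have hR : IsPGroup 2 ↥R := by
    have hdvd : orderOf (QuotientGroup.mk kL : P.Q) ∣ 2 := orderOf_dvd_of_pow_eq_one (by
      rw [pow_two]; exact P.mk_one.mpr (Or.inl k2))
    rcases (Nat.dvd_prime Nat.prime_two).mp hdvd with e | e
    · exact IsPGroup.of_card (n := 0) (by rw [pow_zero, Nat.card_zpowers, e])
    · exact IsPGroup.of_card (n := 1) (by rw [pow_one, Nat.card_zpowers, e])
  obtain ⟨q, hq⟩ := hR.nonempty_fixed_point_of_prime_not_dvd_card (P.Q ⧸ T) hodd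
  obtain ⟨r, rfl⟩ := QuotientGroup.mk_surjective q
  have h1 := hq ⟨_, Subgroup.mem_zpowers _⟩
  change (QuotientGroup.mk ((QuotientGroup.mk kL : P.Q) * r) : P.Q ⧸ T) = QuotientGroup.mk r at h1
  rw [eq_comm, QuotientGroup.eq] at h1
  obtain ⟨rl, rfl⟩ := QuotientGroup.mk_surjective r
  have h2 : (QuotientGroup.mk (rl⁻¹ * (kL * rl)) : P.Q) ∈ T := h1
  have h3 := P.lift_comm (g := rl⁻¹ * (kL * rl)) (Subgroup.mem_centralizer_singleton_iff.mp (hTz h2))
  refine ⟨(rl : G)⁻¹, (P.Lx _ rl.2).inv_left, ?_⟩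
  rw [inv_inv, mul_assoc]
  exact h3

/-- In the normaliser the conjugates of the involutions of the four-group lie in it. -/
theorem conj_in (hM : ∀ v ∈ S.W, v ≠ 1 → ∀ k, Commute k v → k ∈ S.M)
    (hc : ∀ g : G, Commute (g * S.z * g⁻¹) S.z → g ∈ S.M) {g w : G} (hw : w ∈ S.W) (w1 : w ≠ 1)
    (hxM : g⁻¹ * w * g ∈ S.M) : g⁻¹ * w * g ∈ S.W := by
  classical
  set x := g⁻¹ * w * g with hx
  have x2 : x * x = 1 := by
    rw [hx, show g⁻¹ * w * g * (g⁻¹ * w * g) = g⁻¹ * (w * w) * g by group, S.Wsq w hw]; group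
  -- an element of the four-group fixed
  obtain ⟨u, hu, u1, hf⟩ : ∃ u ∈ S.W, u ≠ 1 ∧ Commute x u := by
    obtain ⟨v, hv, v1⟩ := S.exists_W
    have hu := S.mem_M.mp hxM v hv
    by_cases e : x * v * x⁻¹ = v
    · exact ⟨v, hv, v1, mul_inv_eq_iff_eq_mul.mp e⟩
    · refine ⟨v * (x * v * x⁻¹), mul_mem hv hu, fun e' => e ?_, mul_inv_eq_iff_eq_mul.mp ?_⟩
      · rw [← inv_eq_of_mul_eq_one_right e', S.W_inv hv]
      · calc x * (v * (x * v * x⁻¹)) * x⁻¹ = x * v * x⁻¹ * (x * x * v * (x * x)⁻¹) := by group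
          _ = x * v * x⁻¹ * v := by rw [x2]; group
          _ = _ := (S.W_comm hu hv).eq
  obtain ⟨m, hm, hmx⟩ := S.into_C hu u1 hf x2
  have hmM := hM u hu u1 m hm
  set g' := g * m⁻¹ with hg'
  have e' : g'⁻¹ * w * g' = m * x * m⁻¹ := by rw [hg', hx]; group
  have hy : Commute w (g' * S.z * g'⁻¹) := by
    rw [← e'] at hmx
    have := hmx.map (MulAut.conj g').toMonoidHom
    simpa [mul_assoc] using this
  obtain ⟨n, hn, hnz⟩ := S.into_C (k := g' * S.z * g'⁻¹) hw w1 hy.symm (by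
    rw [show g' * S.z * g'⁻¹ * (g' * S.z * g'⁻¹) = g' * (S.z * S.z) * g'⁻¹ by group, S.zz]; group)
  have h1 : n * g' ∈ S.M := hc _ (by
    rwa [show n * g' * S.z * (n * g')⁻¹ = n * (g' * S.z * g'⁻¹) * n⁻¹ by group])
  have h2 : g' ∈ S.M := by
    have := mul_mem (inv_mem (hM w hw w1 n hn)) h1
    rwa [inv_mul_cancel_left] at this
  have h3 : g ∈ S.M := by
    have := mul_mem h2 hmM
    rwa [hg', inv_mul_cancel_right] at this
  have := S.mem_M.mp (inv_mem h3) w hw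
  rwa [inv_inv] at this

/-- The centralisers of the products with the involution normalise the four-group. -/
theorem zw_norm (hIz : ∀ v ∈ S.W, v ≠ 1 → S.IsoAt (S.z * v)) (hM : ∀ v ∈ S.W, v ≠ 1 → ∀ k, Commute k v → k ∈ S.M)
    {w k : G} (hw : w ∈ S.W) (w1 : w ≠ 1) (hk : Commute k (S.z * w)) : k ∈ S.M := by
  classical
  set a := S.z * w with ha
  set L := Subgroup.centralizer ({a} : Set G) with hL
  have memL : ∀ {q}, q ∈ L ↔ Commute q a := Subgroup.mem_centralizer_singleton_iff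
  have za : Commute S.z a := (Commute.refl S.z).mul_right (S.zw_comm hw)
  set zL : ↥L := ⟨S.z, memL.mpr za⟩
  have zord : orderOf zL = 2 := by rw [← Subgroup.orderOf_coe]; exact S.orderOf_z
  have hiso : Cfsg.IsIsolated zL := fun q hq =>
    Subtype.ext (hIz w hw w1 q (memL.mp q.2) (congrArg Subtype.val hq.eq).symm)
  set O := (Cfsg.oddCore ↥L).map L.subtype with hO
  have onorm : ∀ {q}, Commute q a → ∀ o ∈ O, q * o * q⁻¹ ∈ O := by
    rintro q hq _ ⟨o, ho, rfl⟩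
    exact ⟨⟨q, memL.mpr hq⟩ * o * ⟨q, memL.mpr hq⟩⁻¹, (inferInstance : (Cfsg.oddCore ↥L).Normal).conj_mem o ho _, rfl⟩
  have oa : ∀ o ∈ O, Commute o a := fun o ho => memL.mp (Subgroup.map_subtype_le _ ho)
  have oodd : ∀ o ∈ O, Odd (orderOf o) := by
    rintro _ ⟨o, ho, rfl⟩
    rw [Subgroup.subtype_apply, Subgroup.orderOf_coe]
    exact Odd.of_dvd_nat CfsgLib.odd_card_oddCore (Subgroup.orderOf_dvd_natCard _ ho)
  have Ja : ∀ j ∈ S.J, Commute j a := fun j hj => (S.Jz j hj).mul_right (S.Wc w hw j hj).symm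
  have fixfree : ∀ o ∈ O, Commute o S.z → o = 1 := by
    intro o ho hoz
    refine S.odd_J (S.selfcent o hoz fun j hj => ?_) (oodd o ho)
    have h1 : o * j * o⁻¹ * j⁻¹ ∈ O := by
      rw [show o * j * o⁻¹ * j⁻¹ = o * (j * o⁻¹ * j⁻¹) by group]
      exact mul_mem ho (onorm (Ja j hj) _ (inv_mem ho))
    have h2 := S.odd_J (mul_mem (S.conjJ o hoz j hj) (inv_mem hj)) (oodd _ h1)
    exact mul_inv_eq_iff_eq_mul.mp (mul_inv_eq_one.mp h2)
  let f : ↥O → ↥O := fun o => ⟨(o : G)⁻¹ * (S.z * o * S.z⁻¹), mul_mem (inv_mem o.2) (onorm za _ o.2)⟩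
  have finj : Function.Injective f := fun u v e => by
    have e' : (u : G)⁻¹ * (S.z * u * S.z⁻¹) = (v : G)⁻¹ * (S.z * v * S.z⁻¹) := congrArg Subtype.val e
    refine Subtype.ext (mul_inv_eq_one.mp (fixfree _ (mul_mem v.2 (inv_mem u.2)) ?_)).symm
    refine (mul_inv_eq_iff_eq_mul.mp ?_).symm
    calc S.z * ((v : G) * (u : G)⁻¹) * S.z⁻¹ = S.z * v * S.z⁻¹ * (S.z * u * S.z⁻¹)⁻¹ := by group
      _ = (v : G) * ((v : G)⁻¹ * (S.z * v * S.z⁻¹)) * ((u : G)⁻¹ * (S.z * u * S.z⁻¹))⁻¹ * (u : G)⁻¹ := by group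
      _ = (v : G) * (u : G)⁻¹ := by rw [e']; group
  have inv : ∀ o ∈ O, S.z * o * S.z⁻¹ = o⁻¹ := by
    intro o ho
    obtain ⟨v, hv⟩ := (Finite.injective_iff_surjective.mp finj) ⟨o, ho⟩
    have e : (v : G)⁻¹ * (S.z * v * S.z⁻¹) = o := congrArg Subtype.val hv
    rw [← e, show S.z * ((v : G)⁻¹ * (S.z * v * S.z⁻¹)) * S.z⁻¹ =
      (S.z * v * S.z⁻¹)⁻¹ * (S.z * S.z * v * (S.z * S.z)⁻¹) by group, S.zz]
    group
  have ab : ∀ o ∈ O, ∀ p ∈ O, Commute o p := fun o ho p hp => by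
    have h1 := inv _ (mul_mem ho hp)
    rw [show S.z * (o * p) * S.z⁻¹ = S.z * o * S.z⁻¹ * (S.z * p * S.z⁻¹) by group, inv o ho, inv p hp,
      mul_inv_rev] at h1
    have := congrArg (·⁻¹) h1
    simp only [mul_inv_rev, inv_inv] at this
    exact this.symm
  have invw : ∀ o ∈ O, w * o * w⁻¹ = o⁻¹ := fun o ho => by
    have e : w = S.z * a := by rw [ha, ← mul_assoc, S.zz, one_mul]
    rw [e, show S.z * a * o * (S.z * a)⁻¹ = S.z * (a * o * a⁻¹) * S.z⁻¹ by group, ← (oa o ho).eq,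
      mul_inv_cancel_right, inv o ho]
  set y := S.nx w with hy
  have hyW : y ∈ S.W := S.nx_mem hw
  have y1 : y ≠ 1 := ne_one_conj w1
  have ya : Commute y a := (S.Wz hyW).mul_right (S.W_comm hyW hw)
  have OM : ∀ o ∈ O, o ∈ S.M := by
    intro o ho
    set b := y * o * y⁻¹ with hb
    have hbO : b ∈ O := onorm ya o ho
    have hbb : y * b * y⁻¹ = o := by
      rw [hb, show y * (y * o * y⁻¹) * y⁻¹ = y * y * o * (y * y)⁻¹ by group, S.Wsq y hyW]; group
    have h1 : o * b ∈ S.M := hM y hyW y1 _ (by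
      refine (mul_inv_eq_iff_eq_mul.mp ?_).symm
      rw [show y * (o * b) * y⁻¹ = y * o * y⁻¹ * (y * b * y⁻¹) by group, ← hb, hbb, (ab b hbO o ho).eq])
    have hwy : w * y ∈ S.W := mul_mem hw hyW
    have wy1 : w * y ≠ 1 := fun e => S.nx_ne hw w1 ((inv_eq_of_mul_eq_one_right e).symm.trans (S.W_inv hw))
    have h2 : o * b⁻¹ ∈ S.M := hM _ hwy wy1 _ (by
      refine (mul_inv_eq_iff_eq_mul.mp ?_).symm
      calc w * y * (o * b⁻¹) * (w * y)⁻¹ = w * (y * o * y⁻¹ * (y * b * y⁻¹)⁻¹) * w⁻¹ := by group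
        _ = w * (b * o⁻¹) * w⁻¹ := by rw [← hb, hbb]
        _ = (b * o⁻¹)⁻¹ := invw _ (mul_mem hbO (inv_mem ho))
        _ = o * b⁻¹ := by group)
    have h3 : o * o ∈ S.M := by
      have := mul_mem h1 h2
      rwa [show o * b * (o * b⁻¹) = o * o by
        rw [mul_assoc, ← mul_assoc b, (ab b hbO o ho).eq]; group] at this
    obtain ⟨i, hi⟩ := oodd o ho
    have h4 : (o * o) ^ (i + 1) = o := by
      rw [← pow_two, ← pow_mul, show 2 * (i + 1) = orderOf o + 1 by omega, pow_succ, pow_orderOf_eq_one, one_mul]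
    rw [← h4]; exact pow_mem h3 _
  have hd : k * S.z * k⁻¹ * S.z⁻¹ ∈ O :=
    ⟨_, CfsgLib.ZStar.inZStar zord hiso ⟨k, memL.mpr hk⟩, rfl⟩
  set o := k * S.z * k⁻¹ * S.z⁻¹ with ho
  obtain ⟨i, hi⟩ := oodd o hd
  set r := o ^ (i + 1) with hr
  have rO : r ∈ O := pow_mem hd _
  have er : r * S.z * r⁻¹ = k * S.z * k⁻¹ := by
    have e1 : S.z * r⁻¹ = r * S.z := by
      have h := inv _ (inv_mem rO)
      rw [inv_inv, mul_inv_eq_iff_eq_mul] at h
      exact h
    rw [mul_assoc, e1, ← mul_assoc, show r * r = o by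
      rw [hr, ← pow_add, show (i + 1) + (i + 1) = orderOf o + 1 by omega, pow_succ, pow_orderOf_eq_one, one_mul],
      ho, inv_mul_cancel_right]
  have hz : Commute (r⁻¹ * k) S.z := mul_inv_eq_iff_eq_mul.mp (by
    calc r⁻¹ * k * S.z * (r⁻¹ * k)⁻¹ = r⁻¹ * (k * S.z * k⁻¹) * r := by group
      _ = S.z := by rw [← er]; group)
  have := mul_mem (OM r rO) (S.C_le_M hz)
  rwa [mul_inv_cancel_left] at this

/-- The four-group is normal. -/
theorem normal_W (hIz : ∀ v ∈ S.W, v ≠ 1 → S.IsoAt (S.z * v))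
    (hM : ∀ v ∈ S.W, v ≠ 1 → ∀ k, Commute k v → k ∈ S.M)
    (hc : ∀ g : G, Commute (g * S.z * g⁻¹) S.z → g ∈ S.M) : S.W.Normal := by
  classical
  -- commuting conjugates
  have commW : ∀ {g : G} {w : G} (k : G), w ∈ S.W → w ≠ 1 → k * k = 1 → Commute k (g⁻¹ * w * g) → k ≠ 1 →
      (∃ g' : G, g'⁻¹ * w * g' = k * (g⁻¹ * w * g)) → g * k * g⁻¹ ∈ S.W := by
    intro g w k hw w1 k2 hk k1 hg'
    obtain ⟨g', e'⟩ := hg'
    have h1 : Commute (g * k * g⁻¹) w := by
      have := hk.map (MulAut.conj g).toMonoidHom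
      simpa [mul_assoc] using this
    have e : (g' * g⁻¹)⁻¹ * w * (g' * g⁻¹) = g * k * g⁻¹ * w := by
      rw [show (g' * g⁻¹)⁻¹ * w * (g' * g⁻¹) = g * (g'⁻¹ * w * g') * g⁻¹ by group, e']; group
    have h2 := S.conj_in hM hc (g := g' * g⁻¹) hw w1 (by
      rw [e]; exact mul_mem (hM w hw w1 _ h1) (hM w hw w1 w (Commute.refl w)))
    rw [e] at h2
    have := mul_mem h2 (inv_mem hw)
    rwa [mul_inv_cancel_right] at this
  have main : ∀ (g w : G), w ∈ S.W → w ≠ 1 → g⁻¹ * w * g ∈ S.W := by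
    intro g w hw w1
    set j := g⁻¹ * w * g with hj
    have j2 : j * j = 1 := by
      rw [hj, show g⁻¹ * w * g * (g⁻¹ * w * g) = g⁻¹ * (w * w) * g by group, S.Wsq w hw]; group
    obtain ⟨a, ha⟩ : ∃ a : G, a = S.z * j := ⟨_, rfl⟩
    have zi : S.z⁻¹ = S.z := S.z_inv
    have ji : j⁻¹ = j := inv_eq_of_mul_eq_one_right j2
    have za : S.z * a * S.z = a⁻¹ := by
      rw [ha, mul_inv_rev, ji, zi, ← mul_assoc, S.zz, one_mul]
    have zpow : ∀ m : ℕ, S.z * a ^ m * S.z = (a ^ m)⁻¹ := fun m => by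
      induction m with
      | zero => simp [S.zz]
      | succ m ih =>
        calc S.z * a ^ (m + 1) * S.z = S.z * a ^ m * (S.z * S.z) * a * S.z := by rw [S.zz, pow_succ]; group
          _ = S.z * a ^ m * S.z * (S.z * a * S.z) := by group
          _ = _ := by rw [ih, za, pow_succ', mul_inv_rev]
    have cz : ∀ m : ℕ, a ^ m * S.z * (a ^ m)⁻¹ = a ^ (2 * m) * S.z := fun m => by
      calc a ^ m * S.z * (a ^ m)⁻¹ = a ^ m * S.z * (S.z * a ^ m * S.z) := by rw [zpow]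
        _ = a ^ m * (S.z * S.z) * a ^ m * S.z := by group
        _ = _ := by rw [S.zz, mul_one, ← pow_add, two_mul]
    obtain ⟨n, hn⟩ : ∃ n, orderOf a = 2 * n := by
      rcases Nat.even_or_odd (orderOf a) with ⟨n, hn⟩ | ⟨n, hn⟩
      · exact ⟨n, by omega⟩
      · exfalso
        refine S.not_conj hw w1 (g := g * a ^ n) (Or.inl rfl) ?_
        rw [show g * a ^ n * S.z * (g * a ^ n)⁻¹ = g * (a ^ n * S.z * (a ^ n)⁻¹) * g⁻¹ by group, cz]
        have e : a ^ (2 * n) * S.z = j := by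
          have h1 : a ^ (2 * n) = a⁻¹ := eq_inv_of_mul_eq_one_left (by rw [← pow_succ, ← hn, pow_orderOf_eq_one])
          rw [h1, ha, mul_inv_rev, ji, zi, mul_assoc, S.zz, mul_one]
        rw [e, hj]; group
    set k := a ^ n with hk
    have k2 : k * k = 1 := by rw [hk, ← pow_add, ← two_mul, ← hn, pow_orderOf_eq_one]
    have ki : k⁻¹ = k := inv_eq_of_mul_eq_one_right k2
    have kz : Commute k S.z := (mul_inv_eq_iff_eq_mul.mp (by rw [zi, zpow, ← hk, ki])).symm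
    have kj : Commute k j := by
      have h1 : Commute k (S.z * a) := kz.mul_right ((Commute.refl a).pow_left n)
      rwa [ha, ← mul_assoc, S.zz, one_mul] at h1
    have k1 : k ≠ 1 := fun e => by
      have h1 := orderOf_dvd_of_pow_eq_one (n := n) (hk ▸ e)
      have h2 : 0 < orderOf a := orderOf_pos a
      have := Nat.le_of_dvd (by omega) h1
      omega
    rcases Nat.even_or_odd n with ⟨l, hl⟩ | ⟨l, hl⟩
    · -- the product is a conjugate of the other involution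
      have e : a ^ l * j * (a ^ l)⁻¹ = k * j := by
        calc a ^ l * j * (a ^ l)⁻¹ = a ^ l * S.z * a * (a ^ l)⁻¹ := by
              rw [ha, mul_assoc (_ ^ l) S.z, ← mul_assoc S.z S.z, S.zz, one_mul]
          _ = a ^ l * S.z * (a ^ l)⁻¹ * a := by group
          _ = k * S.z * a := by rw [cz, hk, hl, two_mul]
          _ = _ := by rw [ha, mul_assoc k, ← mul_assoc S.z, S.zz, one_mul]
      have hg := commW k hw w1 k2 (hj ▸ kj) k1 ⟨g * (a ^ l)⁻¹, by rw [← hj, ← e, hj]; group⟩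
      have u1 : g * k * g⁻¹ ≠ 1 := fun e => k1 (conj_eq_one_iff.mp e)
      have kW : k ∈ S.W := by
        have := S.conj_in hM hc (g := g) hg u1 (by
          rw [show g⁻¹ * (g * k * g⁻¹) * g = k by group]; exact S.C_le_M kz)
        rwa [show g⁻¹ * (g * k * g⁻¹) * g = k by group] at this
      exact S.conj_in hM hc hw w1 (hM k kW k1 j kj.symm)
    · have e : a ^ (l + 1) * j * (a ^ (l + 1))⁻¹ = k * S.z := by
        calc a ^ (l + 1) * j * (a ^ (l + 1))⁻¹ = a ^ (l + 1) * S.z * a * (a ^ (l + 1))⁻¹ := by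
              rw [ha, mul_assoc (_ ^ (l + 1)) S.z, ← mul_assoc S.z S.z, S.zz, one_mul]
          _ = a ^ (l + 1) * S.z * (a ^ (l + 1))⁻¹ * a := by group
          _ = a ^ n * a * S.z * a := by rw [cz, ← pow_succ]; congr 3; omega
          _ = a ^ n * (a * (S.z * a * S.z)) * S.z := by
              rw [show a ^ n * (a * (S.z * a * S.z)) * S.z = a ^ n * a * S.z * a * (S.z * S.z) by group, S.zz, mul_one]
          _ = _ := by rw [za, mul_inv_cancel, mul_one]
      set u := k * S.z with hu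
      have hug : (g * (a ^ (l + 1))⁻¹)⁻¹ * w * (g * (a ^ (l + 1))⁻¹) = u := by rw [← e, hj]; group
      have uW := S.conj_in hM hc (g := g * (a ^ (l + 1))⁻¹) hw w1 (by
        rw [hug]; exact S.C_le_M (kz.mul_left (Commute.refl _)))
      rw [hug] at uW
      have u1 : u ≠ 1 := fun h => w1 (by
        rw [h] at hug
        calc w = g * (a ^ (l + 1))⁻¹ * 1 * (g * (a ^ (l + 1))⁻¹)⁻¹ := by rw [← hug]; group
          _ = 1 := by group)
      have ek : k = S.z * u := by rw [hu, ← kz.eq.symm, ← mul_assoc, S.zz, one_mul]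
      have hc' : a ^ (l + 1) ∈ S.M := S.zw_norm hIz hM uW u1 (by rw [← ek, hk]; exact (Commute.refl a).pow_pow _ _)
      refine S.conj_in hM hc hw w1 ?_
      rw [← hj, show j = (a ^ (l + 1))⁻¹ * u * a ^ (l + 1) by rw [← e]; group]
      exact mul_mem (mul_mem (inv_mem hc') (hM u uW u1 u (Commute.refl u))) hc'
  refine ⟨fun w hw g => ?_⟩
  by_cases w1 : w = 1
  · rw [w1, mul_one, mul_inv_cancel]; exact one_mem _
  · have := main g⁻¹ w hw w1
    rwa [inv_inv] at this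

/-- The dichotomy. -/
theorem global (hF : Fintype.card F = 3) (eN : Cfsg.PSp 2 F ≃* ↥S.N)
    (hIz : ∀ v ∈ S.W, v ≠ 1 → S.IsoAt (S.z * v)) :
    Subgroup.centralizer ({S.z} : Set G) ⊔ Cfsg.oddCore G = ⊤ ∨
      (S.W.Normal ∧ ∃ w ∈ S.W, w ≠ 1 ∧ ¬ S.IsoAt w) := by
  classical
  have hcase := S.split hF eN hIz
  by_cases hall : ∀ v ∈ S.W, v ≠ 1 → S.IsoAt v
  · left
    refine CfsgLib.U6Chz.sup_core S.orderOf_z fun g hg => ?_
    rcases S.commuting hF eN hIz (Or.inl hall) (g := g) hg.symm with h | ⟨hM, hgM⟩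
    · exact h
    · have hyz : Commute (g * S.z * g⁻¹) S.z := hg.symm
      refine S.good_iso hyz hall ?_
      obtain ⟨w, hw, w1⟩ := S.exists_W
      exact S.good_of_mem hw w1 (by simpa using S.mem_M.mp (inv_mem hgM) w hw)
  · right
    have hM := hcase.resolve_left hall
    refine ⟨S.normal_W hIz hM fun g hg => ?_, by push Not at hall; exact hall⟩
    rcases S.commuting hF eN hIz (Or.inr hM) hg with h | ⟨-, h⟩
    · exact S.C_le_M (mul_inv_eq_iff_eq_mul.mp h)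
    · exact h

end Setup

end CfsgLib.FiThreeType
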