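/-
A normal four-group: the quotient is the automorphism group of the unitary group.
-/
import Cfsg.Agent.Lib.FiThreeType.Global
import Cfsg.Agent.S0815

set_option autoImplicit false
set_option maxRecDepth 100000
set_option linter.unusedVariables false
set_option linter.unusedSectionVars false
set_option linter.style.haveILetI false

namespace CfsgLib.FiThreeType

namespace Setup

variable {G : Type*} [Group G] [Finite G] {X : Type*} [Group X] (S : Setup G X)
variable {F : Type*} [Field F] [Fintype F] {K : Type} [Field K] [Fintype K]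

/-- The centraliser of the four-group. -/
def CW : Subgroup G := Subgroup.centralizer (S.W : Set G)

theorem mem_CW {g : G} : g ∈ S.CW ↔ ∀ v ∈ S.W, Commute g v := by
  rw [CW, Subgroup.mem_centralizer_iff]
  exact ⟨fun h v hv => (h v hv).symm, fun h v hv => (h v hv).symm⟩

/-- The centraliser of the four-group maps onto the unitary group with the four-group as kernel; its order. -/
theorem to_psu (hF : Fintype.card F = 3) (hK : Fintype.card K = 4) (eN : Cfsg.PSp 2 F ≃* ↥S.N)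
    (hIz : ∀ v ∈ S.W, v ≠ 1 → S.IsoAt (S.z * v)) (hW : S.W.Normal) {w : G} (hw : w ∈ S.W) (w1 : w ≠ 1)
    (hn : ¬ S.IsoAt w) :
    (∃ ψ : ↥S.CW →* Cfsg.PSU 6 K 2, Function.Surjective ψ ∧ ∀ c, ψ c = 1 ↔ (c : G) ∈ S.W) ∧
      Nat.card G = 24 * Nat.card (Cfsg.PSU 6 K 2) := by
  classical
  set P := S.glob w hw w1 w (Or.inl rfl) with hP
  set y := S.nx w with hy
  have hyW : y ∈ S.W := S.nx_mem hw
  have memL : ∀ {g : G}, g ∈ P.L ↔ Commute g w := Subgroup.mem_centralizer_singleton_iff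
  obtain ⟨hcen, G0, hi, hdG, ψ, hs, hk⟩ := P.base.case_A (K := K) hF hK eN (fun h hz => P.caseA rfl h hz)
    (S.not_iso hF eN hIz hw w1 hn)
  let q : ↥P.L →* P.Q := QuotientGroup.mk' _
  let R := G0.comap q
  have Ri : R.index = 2 := by rw [Subgroup.index_comap_of_surjective _ (QuotientGroup.mk'_surjective _), hi]
  let φ : ↥R →* Cfsg.PSU 6 K 2 := ψ.comp ((q.comp R.subtype).codRestrict G0 fun r => r.2)
  have φs : Function.Surjective φ := fun x => by
    obtain ⟨⟨p, hp⟩, rfl⟩ := hs x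
    obtain ⟨g, rfl⟩ := QuotientGroup.mk'_surjective _ p
    exact ⟨⟨g, hp⟩, rfl⟩
  have hwy : w * y = y * w := (S.W_comm hw hyW).eq
  have φk : ∀ r : ↥R, φ r = 1 ↔ ((r : ↥P.L) : G) ∈ S.W := fun r => by
    refine (hk _).trans ?_
    show (QuotientGroup.mk (r : ↥P.L) : P.Q) = 1 ∨ (QuotientGroup.mk (r : ↥P.L) : P.Q) = QuotientGroup.mk P.yL ↔ _
    rw [P.mk_one, P.mk_eq]
    constructor
    · rintro ((e | e) | (e | e))
      · rw [e]; exact one_mem _
      · rw [e]; exact hw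
      · rw [show ((r : ↥P.L) : G) = y from e]; exact hyW
      · rw [show ((r : ↥P.L) : G) = y * w from e]; exact mul_mem hyW hw
    · intro h
      rcases S.W_eq hw w1 h with e | e | e | e
      exacts [Or.inl (Or.inl e), Or.inl (Or.inr e), Or.inr (Or.inl e), Or.inr (Or.inr (e.trans hwy))]
  have hcardR : Nat.card ↥R = 4 * Nat.card (Cfsg.PSU 6 K 2) := by
    have h := φ.ker.index_mul_card
    rw [Subgroup.index_ker, MonoidHom.range_eq_top.mpr φs, Subgroup.card_top] at h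
    have e : Nat.card ↥φ.ker = 4 := by
      rw [← S.cardW]
      refine Nat.card_congr ⟨fun r => ⟨(((r : ↥R) : ↥P.L) : G), (φk _).mp r.2⟩,
        fun v => ⟨⟨⟨v, memL.mpr (S.W_comm v.2 hw)⟩, ?_⟩, (φk _).mpr v.2⟩, fun r => rfl, fun v => rfl⟩
      show (QuotientGroup.mk (⟨(v : G), memL.mpr (S.W_comm v.2 hw)⟩ : ↥P.L) : P.Q) ∈ G0
      rcases S.W_eq hw w1 v.2 with e | e | e | e
      · rw [P.mk_one.mpr (Or.inl e)]; exact one_mem _
      · rw [P.mk_one.mpr (Or.inr e)]; exact one_mem _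
      · rw [show (QuotientGroup.mk (⟨(v : G), memL.mpr (S.W_comm v.2 hw)⟩ : ↥P.L) : P.Q) = QuotientGroup.mk P.yL from
          P.mk_eq.mpr (Or.inl e)]
        exact hdG
      · rw [show (QuotientGroup.mk (⟨(v : G), memL.mpr (S.W_comm v.2 hw)⟩ : ↥P.L) : P.Q) = QuotientGroup.mk P.yL from
          P.mk_eq.mpr (Or.inr (e.trans hwy))]
        exact hdG
    rw [e] at h
    omega
  have hPSU := (FiTwoType.psu_facts hK).2.1
  -- the subgroup centralises the four-group
  have moves : ∀ g : ↥P.L, (g : G) * y * (g : G)⁻¹ = y ∨ (g : G) * y * (g : G)⁻¹ = y * w := fun g => by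
    have h1 : (QuotientGroup.mk (g * P.yL) : P.Q) = QuotientGroup.mk (P.yL * g) := (hcen (QuotientGroup.mk g)).eq
    rcases P.mk_eq.mp h1 with (e : (g : G) * y = y * g) | (e : (g : G) * y = y * g * w)
    · left; rw [e, mul_inv_cancel_right]
    · right; rw [e, mul_assoc y, (memL.mp g.2).eq, ← mul_assoc, mul_inv_cancel_right]
  let D : Subgroup ↥R := (Subgroup.centralizer ({y} : Set G)).comap (P.L.subtype.comp R.subtype)
  have memD : ∀ r : ↥R, r ∈ D ↔ Commute ((r : ↥P.L) : G) y := fun r => Subgroup.mem_centralizer_singleton_iff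
  have hRy : ∀ r : ↥R, Commute ((r : ↥P.L) : G) y := by
    by_contra hno
    push Not at hno
    obtain ⟨r0, hr0⟩ := hno
    have mv : ∀ r : ↥R, ¬ Commute ((r : ↥P.L) : G) y → ((r : ↥P.L) : G) * y * ((r : ↥P.L) : G)⁻¹ = y * w :=
      fun r hr => (moves r).resolve_left fun e => hr (mul_inv_eq_iff_eq_mul.mp e)
    have hD2 : D.index = 2 := Subgroup.index_eq_two_iff.mpr ⟨r0, fun r => by
      by_cases hr : r ∈ D
      · refine Or.inr ⟨hr, fun h => hr0 ((memD _).mp ?_)⟩
        have := mul_mem (inv_mem hr) h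
        rwa [inv_mul_cancel_left] at this
      · refine Or.inl ⟨(memD _).mpr (mul_inv_eq_iff_eq_mul.mp ?_), hr⟩
        show ((r : ↥P.L) : G) * ((r0 : ↥P.L) : G) * y * (((r : ↥P.L) : G) * ((r0 : ↥P.L) : G))⁻¹ = y
        rw [show ((r : ↥P.L) : G) * ((r0 : ↥P.L) : G) * y * (((r : ↥P.L) : G) * ((r0 : ↥P.L) : G))⁻¹ =
            ((r : ↥P.L) : G) * (((r0 : ↥P.L) : G) * y * ((r0 : ↥P.L) : G)⁻¹) * ((r : ↥P.L) : G)⁻¹ by group,
          mv r0 hr0, show ((r : ↥P.L) : G) * (y * w) * ((r : ↥P.L) : G)⁻¹ = ((r : ↥P.L) : G) * y *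
            ((r : ↥P.L) : G)⁻¹ * (((r : ↥P.L) : G) * w * ((r : ↥P.L) : G)⁻¹) by group,
          mv r fun h => hr ((memD r).mpr h), (memL.mp (r : ↥P.L).2).eq, mul_inv_cancel_right, mul_assoc, S.Wsq w hw,
          mul_one]⟩
    haveI : D.Normal := Subgroup.normal_of_index_eq_two hD2
    haveI := (FiTwoType.psu_facts hK).1
    rcases ((inferInstance : D.Normal).map φ φs).eq_bot_or_eq_top with h | h
    · have hle : D ≤ φ.ker := fun r hr => by
        have : φ r ∈ D.map φ := ⟨r, hr, rfl⟩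
        rwa [h, Subgroup.mem_bot] at this
      have h1 := Subgroup.card_le_of_le hle
      have h2 := φ.ker.index_mul_card
      rw [Subgroup.index_ker, MonoidHom.range_eq_top.mpr φs, Subgroup.card_top, hcardR] at h2
      have h3 := D.index_mul_card
      rw [hD2, hcardR] at h3
      rw [hPSU] at h2 h3
      omega
    · obtain ⟨d, hd, ed⟩ : φ r0 ∈ D.map φ := h ▸ Subgroup.mem_top _
      refine hr0 ?_
      have hm := (φk (d⁻¹ * r0)).mp (by rw [map_mul, map_inv, ed, inv_mul_cancel])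
      have h4 := ((memD d).mp hd).mul_left (S.W_comm hm hyW)
      rwa [show ((d : ↥P.L) : G) * (((d⁻¹ * r0 : ↥R) : ↥P.L) : G) = ((r0 : ↥P.L) : G) by
        simp [mul_assoc]] at h4
  have RC : ∀ r : ↥R, ((r : ↥P.L) : G) ∈ S.CW := fun r => S.mem_CW.mpr fun v hv => by
    rcases S.W_eq hw w1 hv with rfl | rfl | rfl | rfl
    exacts [Commute.one_right _, memL.mp (r : ↥P.L).2, hRy r, (memL.mp (r : ↥P.L).2).mul_right (hRy r)]
  have CR : ∀ g (hg : g ∈ S.CW), (⟨g, memL.mpr (S.mem_CW.mp hg w hw)⟩ : ↥P.L) ∈ R := by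
    intro g hg
    by_contra hgR
    obtain ⟨t, tz, tn, tw⟩ := S.outer_fix hw w1
    have tC : ¬ Commute t y := fun h => w1 (by
      have e := S.outer_move tz tn hw w1 tw
      rw [← hy, h.eq, mul_inv_cancel_right] at e
      exact right_eq_mul.mp e)
    by_cases htR : (⟨t, memL.mpr tw⟩ : ↥P.L) ∈ R
    · exact tC (hRy ⟨_, htR⟩)
    · have h0 : (⟨g, memL.mpr (S.mem_CW.mp hg w hw)⟩ : ↥P.L)⁻¹ * ⟨t, memL.mpr tw⟩ ∈ R :=
        (Subgroup.mul_mem_iff_of_index_two Ri).mpr (iff_of_false (fun h => hgR (inv_mem_iff.mp h)) htR)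
      have h1 := hRy ⟨_, h0⟩
      refine tC ?_
      have h2 := (S.mem_CW.mp hg y hyW).mul_left (show Commute (g⁻¹ * t) y from h1)
      rwa [mul_inv_cancel_left] at h2
  refine ⟨⟨MonoidHom.mk' (fun c => φ ⟨_, CR c c.2⟩) fun a b => by rw [← map_mul]; rfl, fun x => ?_, fun c => φk _⟩, ?_⟩
  · obtain ⟨r, rfl⟩ := φs x
    exact ⟨⟨_, RC r⟩, rfl⟩
  -- the order
  have hL : Nat.card ↥P.L = 8 * Nat.card (Cfsg.PSU 6 K 2) := by
    rw [← R.index_mul_card, Ri, hcardR]; ring
  have hidx : P.L.index = 3 := by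
    have hn' : Nat.card {v : ↥S.W // v ≠ 1} = 3 := by
      haveI : Finite ↥S.W := Nat.finite_of_card_ne_zero (by rw [S.cardW]; norm_num)
      haveI : Fintype ↥S.W := Fintype.ofFinite _
      rw [Nat.card_eq_fintype_card, Fintype.card_subtype_compl, Fintype.card_subtype_eq, ← Nat.card_eq_fintype_card,
        S.cardW]
    rw [← hn', Subgroup.index_eq_card]
    refine Nat.card_congr (Equiv.ofBijective (fun p => Quotient.liftOn' p
      (fun g => (⟨⟨g * w * g⁻¹, hW.conj_mem w hw g⟩, fun e => w1 (conj_eq_one_iff.mp (congrArg Subtype.val e))⟩ :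
        {v : ↥S.W // v ≠ 1})) fun a b hab => Subtype.ext (Subtype.ext ?_)) ⟨?_, ?_⟩)
    · show a * w * a⁻¹ = b * w * b⁻¹
      have h := memL.mp (QuotientGroup.leftRel_apply.mp hab)
      calc a * w * a⁻¹ = a * (a⁻¹ * b * w * (a⁻¹ * b)⁻¹) * a⁻¹ := by rw [h.eq, mul_inv_cancel_right]
        _ = b * w * b⁻¹ := by group
    · intro a b e
      induction a using QuotientGroup.induction_on
      induction b using QuotientGroup.induction_on
      rename_i a b
      have e' : a * w * a⁻¹ = b * w * b⁻¹ := congrArg (fun v : {v : ↥S.W // v ≠ 1} => ((v.1 : ↥S.W) : G)) e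
      refine QuotientGroup.eq.mpr (memL.mpr (mul_inv_eq_iff_eq_mul.mp ?_))
      calc a⁻¹ * b * w * (a⁻¹ * b)⁻¹ = a⁻¹ * (b * w * b⁻¹) * a := by group
        _ = w := by rw [← e']; group
    · rintro ⟨⟨v, hv⟩, v1⟩
      obtain ⟨h, -, e⟩ := S.trans hw w1 hv fun e => v1 (Subtype.ext e)
      exact ⟨QuotientGroup.mk h, Subtype.ext (Subtype.ext e)⟩
  rw [← P.L.index_mul_card, hidx, hL]; ring

/-- The quotient by the normal four-group. -/
theorem aut (hF : Fintype.card F = 3) (hK : Fintype.card K = 4) (eN : Cfsg.PSp 2 F ≃* ↥S.N)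
    (hIz : ∀ v ∈ S.W, v ≠ 1 → S.IsoAt (S.z * v)) [hW : S.W.Normal] {w : G} (hw : w ∈ S.W) (w1 : w ≠ 1)
    (hn : ¬ S.IsoAt w) : Nonempty ((G ⧸ S.W) ≃* MulAut (Cfsg.PSU 6 K 2)) := by
  classical
  obtain ⟨⟨ψ, hs, hk⟩, hG⟩ := S.to_psu (K := K) hF hK eN hIz hW hw w1 hn
  haveI hCn : S.CW.Normal := ⟨fun c hc g => S.mem_CW.mpr fun v hv => by
    have hv' : g⁻¹ * v * g ∈ S.W := by simpa using hW.conj_mem v hv g⁻¹
    have := (S.mem_CW.mp hc _ hv').map (MulAut.conj g).toMonoidHom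
    simpa [mul_assoc] using this⟩
  have WC : S.W ≤ S.CW := fun v hv => S.mem_CW.mpr fun u hu => S.W_comm hv hu
  have JC : ∀ j ∈ S.J, j ∈ S.CW := fun j hj => S.mem_CW.mpr fun v hv => (S.Wc v hv j hj).symm
  let cj : G → ↥S.CW → ↥S.CW := fun g c => ⟨g * c * g⁻¹, hCn.conj_mem c c.2 g⟩
  have cj_mul : ∀ g a b, cj g (a * b) = cj g a * cj g b := fun g a b => Subtype.ext (by
    show g * ((a : G) * b) * g⁻¹ = g * (a : G) * g⁻¹ * (g * b * g⁻¹); group)
  have wd : ∀ g a b, ψ a = ψ b → ψ (cj g a) = ψ (cj g b) := fun g a b e => by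
    have h1 := (hk (a⁻¹ * b)).mp (by rw [map_mul, map_inv, e, inv_mul_cancel])
    have h2 := (hk ⟨g * ((a⁻¹ * b : ↥S.CW) : G) * g⁻¹, hCn.conj_mem _ (a⁻¹ * b).2 g⟩).mpr (hW.conj_mem _ h1 g)
    rw [show (⟨g * ((a⁻¹ * b : ↥S.CW) : G) * g⁻¹, hCn.conj_mem _ (a⁻¹ * b).2 g⟩ : ↥S.CW) = (cj g a)⁻¹ * cj g b from
      Subtype.ext (by show g * ((a : G)⁻¹ * b) * g⁻¹ = (g * (a : G) * g⁻¹)⁻¹ * (g * b * g⁻¹); group),
      map_mul, map_inv, inv_mul_eq_one] at h2
    exact h2
  let sec := Function.surjInv hs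
  have sec_eq : ∀ x, ψ (sec x) = x := Function.surjInv_eq hs
  let act : G → Cfsg.PSU 6 K 2 → Cfsg.PSU 6 K 2 := fun g x => ψ (cj g (sec x))
  have act_ψ : ∀ g c, act g (ψ c) = ψ (cj g c) := fun g c => wd g _ _ (sec_eq _)
  have act_act : ∀ g h x, act g (act h x) = act (g * h) x := fun g h x => by
    show act g (ψ (cj h (sec x))) = _
    rw [act_ψ]
    congr 1
    exact Subtype.ext (by show g * (h * (sec x : G) * h⁻¹) * g⁻¹ = g * h * (sec x : G) * (g * h)⁻¹; group)
  have act_one : ∀ x, act 1 x = x := fun x => by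
    show ψ (cj 1 (sec x)) = x
    conv_rhs => rw [← sec_eq x]
    congr 1
    exact Subtype.ext (by show (1 : G) * (sec x : G) * (1 : G)⁻¹ = _; group)
  have act_mul : ∀ g x y, act g (x * y) = act g x * act g y := fun g x y => by
    rw [show x * y = ψ (sec x * sec y) by rw [map_mul, sec_eq, sec_eq], act_ψ, cj_mul, map_mul]
  let Θ : G →* MulAut (Cfsg.PSU 6 K 2) := MonoidHom.mk' (fun g =>
    { toFun := act g
      invFun := act g⁻¹
      left_inv := fun x => by rw [act_act, inv_mul_cancel, act_one]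
      right_inv := fun x => by rw [act_act, mul_inv_cancel, act_one]
      map_mul' := act_mul g }) fun g h => MulEquiv.ext fun x => (act_act g h x).symm
  haveI := (FiTwoType.psu_facts hK).1
  have hker : Θ.ker = S.W := by
    ext g
    constructor
    · intro hg
      have hfix : ∀ c : ↥S.CW, (c : G)⁻¹ * (g * c * g⁻¹) ∈ S.W := fun c => by
        have h1 : act g (ψ c) = ψ c := congrArg (fun f : MulAut (Cfsg.PSU 6 K 2) => f (ψ c)) (MonoidHom.mem_ker.mp hg)
        rw [act_ψ] at h1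
        exact (hk (c⁻¹ * cj g c)).mp (by rw [map_mul, map_inv, h1, inv_mul_cancel])
      have gz : Commute g S.z := by
        have h := hfix ⟨S.z, JC _ S.zJ⟩
        set v := S.z⁻¹ * (g * S.z * g⁻¹) with hv
        by_cases v1 : v = 1
        · exact mul_inv_eq_iff_eq_mul.mp (inv_mul_eq_one.mp v1).symm
        · exact absurd (show g * S.z * g⁻¹ = S.z * v by rw [hv, mul_inv_cancel_left]) (S.not_conj h v1 (Or.inr rfl))
      have inW : ∀ g, (∀ c : ↥S.CW, (c : G)⁻¹ * (g * c * g⁻¹) ∈ S.W) → g ∈ S.CW → g ∈ S.W := fun g hf hC => by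
        refine (hk ⟨g, hC⟩).mp ?_
        have hz : ψ ⟨g, hC⟩ ∈ Subgroup.center (Cfsg.PSU 6 K 2) := Subgroup.mem_center_iff.mpr fun x => by
          obtain ⟨c, rfl⟩ := hs x
          have h1 := (hk (c⁻¹ * (⟨g, hC⟩ * c * ⟨g, hC⟩⁻¹))).mpr (hf c)
          rw [map_mul, map_mul, map_mul, map_inv, map_inv, inv_mul_eq_one, eq_comm, mul_inv_eq_iff_eq_mul] at h1
          exact h1.symm
        rcases (inferInstance : (Subgroup.center (Cfsg.PSU 6 K 2)).Normal).eq_bot_or_eq_top with h | h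
        · rwa [h, Subgroup.mem_bot] at hz
        · exfalso
          have hcomm : commutator (Cfsg.PSU 6 K 2) = ⊥ := by
            rw [_root_.commutator_def, Subgroup.commutator_eq_bot_iff_le_centralizer]
            intro x _
            refine Subgroup.mem_centralizer_iff.mpr fun y _ => ?_
            exact Subgroup.mem_center_iff.mp (h ▸ Subgroup.mem_top x) y
          rw [(FiTwoType.psu_facts hK).2.2] at hcomm
          have h2 := (FiTwoType.psu_facts hK).2.1
          rw [← Subgroup.card_top, hcomm, Subgroup.card_bot] at h2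
          norm_num at h2
      have gC : g ∈ Subgroup.centralizer ({S.z} : Set G) := S.mem_C.mpr gz
      have hπ : S.π ⟨g, gC⟩ = 1 := S.hcent _ fun n hn' => by
        obtain ⟨k, kC, kc, ek⟩ := S.lifts n hn'
        obtain ⟨ε, hε, hf⟩ := S.exists_stab (S.mem_C.mp kC) hw w1
        have εC : ε ∈ Subgroup.centralizer ({S.z} : Set G) := by
          rcases hε with rfl | rfl | rfl
          exacts [one_mem _, S.mem_C.mpr S.cz, S.mem_C.mpr (S.cz.mul_left S.cz)]
        have e0 : S.π ⟨ε, εC⟩ = 1 := by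
          rw [S.hk]
          rcases hε with rfl | rfl | rfl
          · exact Or.inl (one_mem _)
          · exact Or.inr (Or.inr (by show S.c * S.c * S.c ∈ S.J; rw [S.c3]; exact one_mem _))
          · exact Or.inr (Or.inl (by show S.c * S.c * S.c ∈ S.J; rw [S.c3]; exact one_mem _))
        have kIn : S.In (ε * k) := ⟨mul_mem εC kC, by
          show S.π (⟨ε, εC⟩ * ⟨k, kC⟩) ∈ S.N; rw [map_mul, e0, one_mul, ek]; exact hn'⟩
        have hkC : ε * k ∈ S.CW := S.mem_CW.mpr (S.In_fix kIn hw w1 hf)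
        have h1 := S.WJ (hfix ⟨_, hkC⟩)
        have h2 : S.π (⟨ε * k, mul_mem εC kC⟩⁻¹ * (⟨g, gC⟩ * ⟨ε * k, mul_mem εC kC⟩ * ⟨g, gC⟩⁻¹)) = 1 :=
          (S.hk _).mpr (Or.inl h1)
        have e1 : S.π ⟨ε * k, mul_mem εC kC⟩ = n := by
          show S.π (⟨ε, εC⟩ * ⟨k, kC⟩) = n; rw [map_mul, e0, one_mul, ek]
        rw [map_mul, map_mul, map_mul, map_inv, map_inv, e1, inv_mul_eq_one, eq_comm, mul_inv_eq_iff_eq_mul] at h2
        exact h2
      have notC : ∀ g, (∀ c : ↥S.CW, (c : G)⁻¹ * (g * c * g⁻¹) ∈ S.W) → g * S.c * S.c ∈ S.J → False := by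
        intro g hf hj
        obtain ⟨u, hu, v, hv, e⟩ := S.nonab (A := S.J) le_rfl (by rw [S.card]; norm_num)
        have allC : ∀ x ∈ S.J, x ∈ S.Cen := fun x hx => S.fix_c hx (by
          set i := g * S.c * S.c with hi
          have eg : g = i * S.c := by
            rw [hi, show g * S.c * S.c * S.c = g * (S.c * S.c * S.c) by group, S.c3, mul_one]
          have h1 : x⁻¹ * (g * x * g⁻¹) ∈ S.Cen := Or.inl (hf ⟨x, JC x hx⟩)
          have hcx := S.conjJ _ S.cz x hx
          have h2 : S.c * x * S.c⁻¹ * x⁻¹ = i⁻¹ * x * (x⁻¹ * (g * x * g⁻¹)) * i * x⁻¹ := by rw [eg]; group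
          rw [h2, mul_assoc (i⁻¹ * x), (S.Cen_comm h1 hj).eq, ← mul_assoc,
            mul_assoc (i⁻¹ * x * i), (S.Cen_comm h1 (inv_mem hx)).eq, ← mul_assoc]
          refine mul_mem ?_ h1
          rcases S.comm2 i⁻¹ (inv_mem hj) x hx with e | e
          · rw [e.eq, inv_mul_cancel_right, mul_inv_cancel]; exact one_mem _
          · rw [e, show S.z * (x * i⁻¹) * i * x⁻¹ = S.z by group]; exact S.z_Cen)
        exact S.z1 (mul_eq_right.mp (e.symm.trans (S.Cen_comm (allC u hu) hv).eq))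
      rcases (S.hk _).mp hπ with e | e | e
      · exact inW g hfix (JC g e)
      · exfalso
        have e' : g * S.c ∈ S.J := e
        have hg' : g⁻¹ ∈ Θ.ker := inv_mem hg
        refine notC g⁻¹ (fun c => ?_) ?_
        · have h1 : act g⁻¹ (ψ c) = ψ c := congrArg (fun f : MulAut (Cfsg.PSU 6 K 2) => f (ψ c))
            (MonoidHom.mem_ker.mp hg')
          rw [act_ψ] at h1
          exact (hk (c⁻¹ * cj g⁻¹ c)).mp (by rw [map_mul, map_inv, h1, inv_mul_cancel])
        · have h1 := S.conjJ _ S.cz _ (inv_mem e')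
          rw [show g⁻¹ * S.c * S.c = S.c * (g * S.c)⁻¹ * S.c⁻¹ * (S.c * S.c * S.c) by group, S.c3, mul_one]
          exact h1
      · exact (notC g hfix e).elim
    · intro hg
      refine MonoidHom.mem_ker.mpr (MulEquiv.ext fun x => ?_)
      obtain ⟨c, rfl⟩ := hs x
      show act g (ψ c) = ψ c
      rw [act_ψ]
      congr 1
      refine Subtype.ext ?_
      show g * (c : G) * g⁻¹ = c
      rw [((S.mem_CW.mp c.2) g hg).eq.symm, mul_inv_cancel_right]
  have hA : Nat.card (MulAut (Cfsg.PSU 6 K 2)) = 6 * Nat.card (Cfsg.PSU 6 K 2) := by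
    haveI : Fact (Nat.Prime 2) := ⟨Nat.prime_two⟩
    rw [Cfsg.Agent.S0815.result 2 1 le_rfl (q := 2) (pow_one 2).symm (by rw [hK]; norm_num) 6 (by norm_num) (by omega)]
    norm_num
  have hQ : Nat.card (G ⧸ S.W) = Nat.card (MulAut (Cfsg.PSU 6 K 2)) := by
    have h := S.W.card_eq_card_quotient_mul_card_subgroup
    rw [hG, S.cardW] at h
    rw [hA]; omega
  let e0 : G ⧸ S.W ≃* ↥Θ.range :=
    (QuotientGroup.quotientMulEquivOfEq hker.symm).trans (QuotientGroup.quotientKerEquivRange Θ)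
  haveI : Finite (Cfsg.PSU 6 K 2) := Finite.of_surjective ψ hs
  haveI : Finite (MulAut (Cfsg.PSU 6 K 2)) :=
    Finite.of_injective (fun f => (f : Cfsg.PSU 6 K 2 → Cfsg.PSU 6 K 2)) DFunLike.coe_injective
  have htop : Θ.range = ⊤ := Subgroup.eq_top_of_card_eq _ (by rw [← hQ, Nat.card_congr e0.toEquiv])
  exact ⟨(e0.trans (MulEquiv.subgroupCongr htop)).trans Subgroup.topEquiv⟩

end Setup

end CfsgLib.FiThreeType
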