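/-
A quotient isomorphic to the Fischer group of degree twenty-two gives the one of degree twenty-three.
-/
import Cfsg.Agent.Lib.FiThreeType.Point
import Cfsg.Agent.Lib.FiTwoType.CaseB
import Cfsg.Agent.Lib.Fi23Rec.Main
import Cfsg.Agent.S1696
import Cfsg.Prelude.Def_Spor_Fi23

set_option autoImplicit false
set_option maxRecDepth 100000
set_option linter.unusedVariables false
set_option linter.unusedSectionVars false
set_option linter.style.haveILetI false

namespace CfsgLib.FiThreeType

namespace Setup

variable {G : Type*} [Group G] [Finite G] {X : Type*} [Group X]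
variable {F : Type*} [Field F] [Fintype F]

variable (S : Setup G X)

/-- A quotient isomorphic to the smaller Fischer group gives the larger one. -/
theorem fi23 {w : G} (hw : w ∈ S.W) (w1 : w ≠ 1)
    (e : Nonempty ((S.glob w hw w1 (S.z * w) (Or.inr rfl)).Q ≃* Cfsg.Spor.Fi22)) : Cfsg.Spor.IsoFi23 G := by
  classical
  obtain ⟨e⟩ := e
  set P := S.glob w hw w1 (S.z * w) (Or.inr rfl) with hP
  set d := S.z * w with hd
  haveI hs : IsSimpleGroup Cfsg.Spor.Fi22 := Cfsg.Agent.S1696.result.1
  have hcard : Nat.card Cfsg.Spor.Fi22 = 64561751654400 := Cfsg.Agent.S1696.result.2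
  have hperf : commutator Cfsg.Spor.Fi22 = ⊤ := by
    rcases (inferInstance : (commutator Cfsg.Spor.Fi22).Normal).eq_bot_or_eq_top with h | h
    · exfalso
      letI : CommGroup Cfsg.Spor.Fi22 :=
        { (inferInstance : Group Cfsg.Spor.Fi22) with
          mul_comm := fun a b => by
            have := Subgroup.commutator_mem_commutator (Subgroup.mem_top a) (Subgroup.mem_top b)
            rw [← _root_.commutator_def, h, Subgroup.mem_bot, commutatorElement_eq_one_iff_mul_comm] at this
            exact this }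
      haveI : Finite Cfsg.Spor.Fi22 := Nat.finite_of_card_ne_zero (by rw [hcard]; norm_num)
      have hp := IsSimpleGroup.prime_card (α := Cfsg.Spor.Fi22)
      rw [hcard] at hp
      norm_num at hp
    · exact h
  let q : ↥P.L →* Cfsg.Spor.Fi22 := e.toMonoidHom.comp (QuotientGroup.mk' _)
  have qs : Function.Surjective q := e.surjective.comp (QuotientGroup.mk'_surjective _)
  have qk : ∀ g, q g = 1 ↔ (g : G) = 1 ∨ (g : G) = d := fun g => by
    show e (QuotientGroup.mk g) = 1 ↔ _
    rw [MulEquiv.map_eq_one_iff]; exact P.mk_one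
  set U := commutator ↥P.L with hU
  have cov : ∀ g : ↥P.L, g ∈ U ∨ g * P.xL ∈ U := fun g => by
    have hq : q g ∈ U.map q := by
      rw [hU, _root_.commutator_def, Subgroup.map_commutator, Subgroup.map_top_of_surjective q qs,
        ← _root_.commutator_def, hperf]
      exact Subgroup.mem_top _
    obtain ⟨r, hr, er⟩ := hq
    rcases (qk (g⁻¹ * r)).mp (by rw [map_mul, map_inv, er, inv_mul_cancel]) with k | k
    · exact Or.inl (by rw [show g = r from inv_mul_eq_one.mp (Subtype.ext k)]; exact hr)
    · right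
      rw [show g * P.xL = r by rw [← show g⁻¹ * r = P.xL from Subtype.ext k, mul_inv_cancel_left]]
      exact hr
  have hdU : P.xL ∈ U := by
    by_contra hdU
    have zU : P.zL ∈ U := by
      obtain ⟨u, hu, v, hv, euv⟩ := S.nonab (A := S.J) le_rfl (by rw [S.card]; norm_num)
      let uL : ↥P.L := ⟨u, P.J_L hu⟩
      let vL : ↥P.L := ⟨v, P.J_L hv⟩
      have e0 : P.zL = uL * vL * uL⁻¹ * vL⁻¹ := Subtype.ext (show S.z = u * v * u⁻¹ * v⁻¹ by rw [euv]; group)
      rw [e0, hU, _root_.commutator_def]
      exact Subgroup.commutator_mem_commutator (Subgroup.mem_top uL) (Subgroup.mem_top vL)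
    obtain ⟨h, hh, hn⟩ : ∃ h, Commute h S.z ∧ ¬ S.In h := by
      by_contra hall
      push Not at hall
      have hi := S.hN
      rw [show S.N = ⊤ from eq_top_iff.mpr fun x _ => by
        obtain ⟨h, rfl⟩ := S.hπ x
        exact (hall h.1 (S.mem_C.mp h.2)).2, Subgroup.index_top] at hi
      norm_num at hi
    obtain ⟨ε, hε, hf⟩ := S.exists_stab hh hw w1
    have εz : Commute ε S.z := by rcases hε with rfl | rfl | rfl; exacts [Commute.one_left _, S.cz, S.cz.mul_left S.cz]
    have εIn : S.In ε := by
      rcases hε with rfl | rfl | rfl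
      exacts [S.In_J (one_mem _), S.In_c, S.In_mul S.In_c S.In_c]
    set t := ε * h
    have tz : Commute t S.z := εz.mul_left hh
    have tn : ¬ S.In t := fun i => hn (by simpa [t] using S.In_mul (S.In_inv εIn) i)
    let tL : ↥P.L := ⟨t, P.HL t tz hf⟩
    let wL : ↥P.L := ⟨w, P.J_L (S.WJ hw)⟩
    have e1 : tL * P.yL * tL⁻¹ = wL * P.yL := Subtype.ext (S.outer_move tz tn hw w1 hf)
    have wn : wL ∉ U := fun h => hdU (by
      rw [show P.xL = P.zL * wL from Subtype.ext rfl]; exact mul_mem zU h)
    haveI : U.Normal := by rw [hU]; infer_instance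
    rcases cov P.yL with h | h
    · have h1 := (inferInstance : U.Normal).conj_mem _ h tL
      rw [e1] at h1
      exact wn ((Subgroup.mul_mem_cancel_right U h).mp h1)
    · have h2 : P.yL * wL ∈ U := by
        have h3 := mul_mem h zU
        rwa [show P.yL * P.xL * P.zL = P.yL * wL from Subtype.ext (by
          show S.nx w * (S.z * w) * S.z = S.nx w * w
          rw [mul_assoc, mul_assoc S.z w, (S.Wz hw).eq, ← mul_assoc S.z S.z, S.zz, one_mul])] at h3
      have h1 := (inferInstance : U.Normal).conj_mem _ h2 tL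
      have e2 : tL * (P.yL * wL) * tL⁻¹ = P.yL := by
        rw [show tL * (P.yL * wL) * tL⁻¹ = tL * P.yL * tL⁻¹ * (tL * wL * tL⁻¹) by group, e1]
        refine Subtype.ext ?_
        show w * S.nx w * (t * w * t⁻¹) = S.nx w
        rw [hf.eq, mul_inv_cancel_right, (S.W_comm hw (S.nx_mem hw)).eq, mul_assoc, S.Wsq w hw, mul_one]
      rw [e2] at h1
      exact wn ((Subgroup.mul_mem_cancel_left U h1).mp h2)
  haveI : Group.IsPerfect ↥P.L := ⟨eq_top_iff.mpr fun g _ => by
    rcases cov g with h | h
    · exact h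
    · exact (Subgroup.mul_mem_cancel_right U hdU).mp h⟩
  have hcen : Subgroup.center ↥P.L = q.ker := by
    refine le_antisymm (fun c hc => ?_) fun c hc => ?_
    · have hmem : q c ∈ Subgroup.center Cfsg.Spor.Fi22 := Subgroup.mem_center_iff.mpr fun x => by
        obtain ⟨y, rfl⟩ := qs x
        rw [← map_mul, ← map_mul, Subgroup.mem_center_iff.mp hc y]
      rcases (inferInstance : (Subgroup.center Cfsg.Spor.Fi22).Normal).eq_bot_or_eq_top with h | h
      · rw [h, Subgroup.mem_bot] at hmem
        exact hmem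
      · exfalso
        have hcomm : commutator Cfsg.Spor.Fi22 = ⊥ := by
          rw [_root_.commutator_def, Subgroup.commutator_eq_bot_iff_le_centralizer]
          intro x _
          refine Subgroup.mem_centralizer_iff.mpr fun y _ => ?_
          exact Subgroup.mem_center_iff.mp (h ▸ Subgroup.mem_top x) y
        rw [hperf] at hcomm
        have := hcard
        rw [← Subgroup.card_top, hcomm, Subgroup.card_bot] at this
        norm_num at this
    · refine Subgroup.mem_center_iff.mpr fun y => Subtype.ext ?_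
      rcases (qk c).mp hc with k | k
      · simp [k]
      · show (y : G) * c = c * y
        rw [k]; exact P.Lx _ y.2
  have hker : (Subgroup.zpowers d).subgroupOf P.L = Subgroup.zpowers P.xL := by
    ext g
    rw [Subgroup.mem_subgroupOf, Subgroup.mem_zpowers_iff, Subgroup.mem_zpowers_iff]
    exact ⟨fun ⟨i, h⟩ => ⟨i, Subtype.ext (by rw [Subgroup.coe_zpow]; exact h)⟩,
      fun ⟨i, h⟩ => ⟨i, by rw [← h, Subgroup.coe_zpow]; rfl⟩⟩
  haveI hn' : ((Subgroup.zpowers d).subgroupOf P.L).Normal :=
    hker.symm ▸ (inferInstance : (Subgroup.zpowers P.xL).Normal)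
  haveI : ((Subgroup.zpowers d).subgroupOf (Subgroup.centralizer ({d} : Set G))).Normal := hn'
  have hq : Cfsg.IsQuasisimple ↥P.L := by
    refine ⟨inferInstance, ?_⟩
    let e' := (QuotientGroup.quotientMulEquivOfEq hcen).trans (QuotientGroup.quotientKerEquivOfSurjective q qs)
    haveI : Nontrivial (↥P.L ⧸ Subgroup.center ↥P.L) := e'.toEquiv.nontrivial
    exact IsSimpleGroup.isSimpleGroup_of_surjective e'.symm.toMonoidHom e'.symm.surjective
  obtain ⟨f, -⟩ := CfsgFi23Rec.recognise d
    (orderOf_eq_prime (p := 2) (by rw [pow_two]; exact P.x_sq) P.x_ne) hq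
    (CfsgFi23Rec.exists_type ((QuotientGroup.quotientMulEquivOfEq hker).trans e))
    ⟨S.c, Subgroup.mem_centralizer_singleton_iff.mpr (by
      have hy := S.nx_mem hw
      have e3 : S.c * d * S.c⁻¹ = S.z * S.nx w := by
        rw [hd, show S.c * (S.z * w) * S.c⁻¹ = S.c * S.z * S.c⁻¹ * S.nx w by simp only [nx]; group, S.cz.eq,
          mul_inv_cancel_right]
      rw [e3]
      exact (((Commute.refl S.z).mul_right (S.Wz hw).symm).mul_left ((S.Wz hy).mul_right (S.W_comm hy hw))).eq),
      fun e3 => S.nx_ne hw w1 (by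
        have e4 : S.c * d * S.c⁻¹ = S.z * S.nx w := by
          rw [hd, show S.c * (S.z * w) * S.c⁻¹ = S.c * S.z * S.c⁻¹ * S.nx w by simp only [nx]; group, S.cz.eq,
            mul_inv_cancel_right]
        rw [e3, hd] at e4
        exact (mul_left_cancel e4).symm)⟩
  exact ⟨f.symm⟩

/-- Recognition or isolation at the products with the involution. -/
theorem fi23_or_iso (hF : Fintype.card F = 3) (eN : Cfsg.PSp 2 F ≃* ↥S.N) :
    Cfsg.Spor.IsoFi23 G ∨ ∀ w ∈ S.W, w ≠ 1 → S.IsoAt (S.z * w) := by
  classical
  let K0 := GaloisField 2 2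
  haveI : Fintype K0 := Fintype.ofFinite _
  have hK0 : Fintype.card K0 = 4 := by
    rw [← Nat.card_eq_fintype_card, GaloisField.card 2 2 (by norm_num)]; norm_num
  by_cases h : ∀ w ∈ S.W, w ≠ 1 → S.IsoAt (S.z * w)
  · exact Or.inr h
  left
  push Not at h
  obtain ⟨w, hw, w1, hn⟩ := h
  set P := S.glob w hw w1 (S.z * w) (Or.inr rfl)
  have hB : ∀ h, Commute h P.base.z → Commute h P.base.d → P.base.In h := P.caseB rfl
  refine S.fi23 hw w1 ?_
  by_cases hI : P.base.Iso
  · by_cases hI' : P.base.flip.Iso
    · exfalso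
      exact hn fun g hg hc => P.isolated hF eN hI hI' g (Subgroup.mem_centralizer_singleton_iff.mpr hg) hc
    · refine P.base.flip.case_B (K := K0) hF hK0 eN (fun h hz hd => hB h hz ?_) hI'
      have h2 := (show Commute h (P.base.d * P.base.z) from hd).mul_right (show Commute h P.base.z from hz)
      rwa [mul_assoc, P.base.zz, mul_one] at h2
  · exact P.base.case_B (K := K0) hF hK0 eN hB hI

end Setup

end CfsgLib.FiThreeType
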